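import Cfsg.Agent.Char.Gallagher
import Cfsg.Agent.Char.Clifford
import Cfsg.Agent.Char.Glauberman.Bridge
import Cfsg.Agent.ProjExt.Data
import Cfsg.Agent.ProjExt.Cocycle
import Cfsg.Agent.Blocks.Projection
import Cfsg.Prelude.Def_BlockRank

/-!
# The rank of the set of characters over an invariant character
-/

set_option autoImplicit false

namespace Cfsg.Agent.BlockChar.Tame

open Cfsg.Agent

universe u

variable {G : Type u} [Group G] [Fintype G] {K : Subgroup G} [hK : K.Normal] [Fintype K]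

/-- On a coset of `K` all characters over an invariant character are proportional. -/
theorem exists_coset_function (θ : Cfsg.IrrCharacter K)
    (hθ : ∀ g : G, Char.conjFun g (θ : K → ℂ) = θ) (g : G) :
    ∃ v : G → ℂ, ∀ χ : Cfsg.IrrCharacter G,
      Cfsg.classInner (fun n : K => (χ : G → ℂ) n) (θ : K → ℂ) ≠ 0 →
        ∃ c : ℂ, ∀ k ∈ K, (χ : G → ℂ) (g * k) = c * v (g * k) := by
  classical
  set H : Subgroup G := K ⊔ Subgroup.zpowers g with hH
  have := Fintype.ofFinite H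
  have hKH : K ≤ H := le_sup_left
  have hgH : g ∈ H := (le_sup_right : Subgroup.zpowers g ≤ H) (Subgroup.mem_zpowers g)
  have hKn : (K.subgroupOf H).Normal := hK.subgroupOf H
  have := Fintype.ofFinite (K.subgroupOf H)
  set e := Subgroup.subgroupOfEquivOfLe hKH
  set θ' : Cfsg.IrrCharacter (K.subgroupOf H) := Char.Glauberman.irrEquiv e θ with hθ'
  have hinv : ∀ (t : H) (n : K.subgroupOf H),
      (θ' : K.subgroupOf H → ℂ) ⟨t * n * t⁻¹, hKn.conj_mem (n : H) n.2 t⟩ =
        (θ' : K.subgroupOf H → ℂ) n := fun t n => congrFun (hθ (t : G)) (e n)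
  have hcyc : IsCyclic (H ⧸ K.subgroupOf H) := by
    refine isCyclic_of_surjective
      ((QuotientGroup.mk' (K.subgroupOf H)).comp
        (Subgroup.inclusion (le_sup_right : Subgroup.zpowers g ≤ H))) fun q => ?_
    obtain ⟨⟨t, ht⟩, rfl⟩ := QuotientGroup.mk_surjective q
    obtain ⟨k, hk, w, hw, rfl⟩ := Subgroup.mem_sup_of_normal_left.1 ht
    refine ⟨⟨w, hw⟩, (QuotientGroup.eq.2 ?_ : ((⟨w, _⟩ : H) : H ⧸ K.subgroupOf H) = _)⟩
    rw [Subgroup.mem_subgroupOf]
    simpa [mul_assoc] using hK.conj_mem k hk w⁻¹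
  obtain ⟨D⟩ := ProjExt.exists_data θ'.2 hinv
  obtain ⟨χ₀, hχ₀, hres⟩ := D.exists_extension_of_splits
    (D.cocycle.splits_of_cyclic hcyc fun y j hj => by
      obtain ⟨z, hz⟩ := IsAlgClosed.exists_pow_nat_eq (y : ℂ) hj
      have hz0 : z ≠ 0 := by
        rintro rfl
        rw [zero_pow hj.ne'] at hz
        exact y.ne_zero hz.symm
      exact ⟨Units.mk0 z hz0, Units.ext (by simpa using hz)⟩)
  have hres' : (fun n : K.subgroupOf H => χ₀ n) = (θ' : K.subgroupOf H → ℂ) := funext hres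
  have hirr : Cfsg.IsIrrCharacter (K.subgroupOf H) (fun n : K.subgroupOf H => χ₀ n) :=
    hres' ▸ θ'.2
  refine ⟨fun a => if h : a ∈ H then χ₀ ⟨a, h⟩ else 0, fun χ hχ => ?_⟩
  set f : H → ℂ := fun t => (χ : G → ℂ) t with hf
  have hfc : Cfsg.IsCharacter H f := Char.isCharacter_res H (Char.IsIrr.isCharacter χ.2)
  -- only `θ'` occurs below
  have honly : ∀ η : Cfsg.IrrCharacter (K.subgroupOf H),
      Cfsg.classInner (fun n : K.subgroupOf H => f n) (η : K.subgroupOf H → ℂ) ≠ 0 → η = θ' := by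
    intro η hη
    obtain ⟨η₀, rfl⟩ := (Char.Glauberman.irrEquiv e).surjective η
    have h1 : Cfsg.classInner (fun n : K => (χ : G → ℂ) n) (η₀ : K → ℂ) ≠ 0 := by
      refine fun h0 => hη ?_
      rw [Cfsg.classInner] at h0 ⊢
      rw [Nat.card_congr e.toEquiv, ← h0]
      exact congrArg _ (Fintype.sum_equiv e.toEquiv _ _ fun a => rfl)
    obtain ⟨t, ht⟩ := Char.mem_orbit.1 (Char.constituent_mem_orbit χ.2 θ.2 η₀.2 hχ h1)
    rw [hθ'] at *
    exact congrArg _ (Subtype.ext (ht.symm.trans (hθ t)))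
  have hexp := Char.classFun_expansion (Char.isClassFunction_of_isCharacter hfc)
  choose m hm using fun ψ : Cfsg.IrrCharacter H =>
    Char.classInner_isCharacter_eq_natCast hfc (Char.IsIrr.isCharacter ψ.2)
  have hover : ∀ ψ : Cfsg.IrrCharacter H, m ψ ≠ 0 →
      Cfsg.classInner (fun n : K.subgroupOf H => (ψ : H → ℂ) n)
        (fun n : K.subgroupOf H => χ₀ n) ≠ 0 := by
    intro ψ hψ
    rw [hres']
    obtain ⟨η, hη⟩ := Char.exists_constituent_res (N := K.subgroupOf H) ψ.2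
    choose k hk using fun φ : Cfsg.IrrCharacter H =>
      Char.classInner_isCharacter_eq_natCast
        (Char.isCharacter_res (K.subgroupOf H) (Char.IsIrr.isCharacter φ.2))
        (Char.IsIrr.isCharacter η.2)
    have h1 : Cfsg.classInner (fun n : K.subgroupOf H => f n) (η : K.subgroupOf H → ℂ) =
        ((∑ φ : Cfsg.IrrCharacter H, m φ * k φ : ℕ) : ℂ) := by
      push_cast
      simp only [← hk, ← hm]
      simp only [Cfsg.classInner, Finset.mul_sum]
      rw [Finset.sum_comm]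
      refine Finset.sum_congr rfl fun n _ => ?_
      have h2 := congrFun hexp (n : H)
      rw [Finset.sum_apply] at h2
      rw [h2]
      simp only [Pi.smul_apply, smul_eq_mul, Cfsg.classInner, Finset.mul_sum, Finset.sum_mul]
      refine Finset.sum_congr rfl fun φ _ => Finset.sum_congr rfl fun t _ => ?_
      ring
    have hne : Cfsg.classInner (fun n : K.subgroupOf H => f n) (η : K.subgroupOf H → ℂ) ≠ 0 := by
      rw [h1, Nat.cast_ne_zero]
      refine fun h0 => ?_
      have := (Finset.sum_eq_zero_iff.1 h0) ψ (Finset.mem_univ _)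
      rcases mul_eq_zero.1 this with h3 | h3
      · exact hψ h3
      · exact hη (by rw [hk ψ, h3, Nat.cast_zero])
    rwa [honly η hne] at hη
  have hconst : ∀ ψ : Cfsg.IrrCharacter H, m ψ ≠ 0 → ∃ c : ℂ, ∀ (k : G) (hk : k ∈ K),
      (ψ : H → ℂ) ⟨g * k, H.mul_mem hgH (hKH hk)⟩ = c * χ₀ ⟨g * k, H.mul_mem hgH (hKH hk)⟩ := by
    intro ψ hψ
    obtain ⟨hβ, hker, he⟩ := (Char.gallagher (K.subgroupOf H) hχ₀ hirr ψ.2).1 (hover ψ hψ)
    refine ⟨Char.galEta (K.subgroupOf H) χ₀ (ψ : H → ℂ) ⟨g, hgH⟩, fun k hk => ?_⟩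
    conv_lhs => rw [he]
    rw [Pi.mul_apply]
    congr 1
    have hk' : (⟨g * k * g⁻¹, hKH (hK.conj_mem k hk g)⟩ : H) ∈ K.subgroupOf H :=
      Subgroup.mem_subgroupOf.2 (hK.conj_mem k hk g)
    rw [show (⟨g * k, H.mul_mem hgH (hKH hk)⟩ : H) =
      ⟨g * k * g⁻¹, hKH (hK.conj_mem k hk g)⟩ * ⟨g, hgH⟩ from Subtype.ext (by simp)]
    exact Char.IsChar.mul_left_of_mem_kernel (Char.IsIrr.isCharacter hβ) (hker _ hk') _
  choose! c hc using hconst
  refine ⟨∑ ψ : Cfsg.IrrCharacter H, (m ψ : ℂ) * c ψ, fun k hk => ?_⟩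
  simp only [dif_pos (H.mul_mem hgH (hKH hk))]
  have h2 := congrFun hexp ⟨g * k, H.mul_mem hgH (hKH hk)⟩
  rw [Finset.sum_apply] at h2
  rw [show (χ : G → ℂ) (g * k) = f ⟨g * k, H.mul_mem hgH (hKH hk)⟩ from rfl, h2, Finset.sum_mul]
  refine Finset.sum_congr rfl fun ψ _ => ?_
  rw [Pi.smul_apply, smul_eq_mul, hm, mul_assoc]
  by_cases h0 : m ψ = 0
  · simp [h0]
  · rw [hc ψ h0 k hk]

/-- At most one dimension for each regular class of the quotient. -/
theorem blockRank_le_regular (θ : Cfsg.IrrCharacter K)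
    (hθ : ∀ g : G, Char.conjFun g (θ : K → ℂ) = θ) {p : ℕ} (B : Set (Cfsg.IrrCharacter G))
    (hB : ∀ χ ∈ B, Cfsg.classInner (fun n : K => (χ : G → ℂ) n) (θ : K → ℂ) ≠ 0) :
    Cfsg.blockRank p B ≤
      Nat.card {C : ConjClasses (G ⧸ K) // ∃ a, ConjClasses.mk a = C ∧ ¬ p ∣ orderOf a} := by
  classical
  set ι := {C : ConjClasses (G ⧸ K) // ∃ a, ConjClasses.mk a = C ∧ ¬ p ∣ orderOf a}
  have := Fintype.ofFinite ι
  have hrep : ∀ C : ι, ∃ g : G, ConjClasses.mk (g : G ⧸ K) = C.1 := fun C => by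
    obtain ⟨q, hq⟩ := ConjClasses.exists_rep C.1
    obtain ⟨g, rfl⟩ := QuotientGroup.mk_surjective q
    exact ⟨g, hq⟩
  choose g hg using hrep
  choose v hv using fun C : ι => exists_coset_function θ hθ (g C)
  let u : ι → G → ℂ := fun C a => if p ∣ orderOf a then 0 else v C a
  let pick : ι → G := fun C =>
    if h : ∃ k ∈ K, u C (g C * k) ≠ 0 then g C * h.choose else g C
  let W : Submodule ℂ (G → ℂ) :=
    { carrier := {f | Cfsg.IsClassFunction G f ∧ (∀ a, p ∣ orderOf a → f a = 0) ∧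
        ∀ C : ι, ∃ c : ℂ, ∀ k ∈ K, f (g C * k) = c * u C (g C * k)}
      zero_mem' := ⟨fun _ _ => rfl, fun _ _ => rfl, fun _ => ⟨0, fun _ _ => by simp⟩⟩
      add_mem' := fun {f f'} ⟨h1, h2, h3⟩ ⟨h1', h2', h3'⟩ =>
        ⟨fun a b => by simp only [Pi.add_apply, h1 a b, h1' a b],
          fun a ha => by simp [h2 a ha, h2' a ha],
          fun C => by
            obtain ⟨c, hc⟩ := h3 C
            obtain ⟨c', hc'⟩ := h3' C
            exact ⟨c + c', fun k hk => by rw [Pi.add_apply, hc k hk, hc' k hk, add_mul]⟩⟩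
      smul_mem' := fun r f ⟨h1, h2, h3⟩ =>
        ⟨fun a b => by simp only [Pi.smul_apply, h1 a b], fun a ha => by simp [h2 a ha],
          fun C => by
            obtain ⟨c, hc⟩ := h3 C
            exact ⟨r * c, fun k hk => by rw [Pi.smul_apply, hc k hk, smul_eq_mul, mul_assoc]⟩⟩ }
  have hle : Submodule.span ℂ
      ((fun χ : Cfsg.IrrCharacter G => Cfsg.pRegularPart p (χ : G → ℂ)) '' B) ≤ W := by
    rw [Submodule.span_le]
    rintro _ ⟨χ, hχ, rfl⟩
    refine ⟨fun a b => ?_, fun a ha => by simp only [Blocks.pRegularPart_apply, if_pos ha], fun C => ?_⟩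
    · have ho : orderOf (b * a * b⁻¹) = orderOf a :=
        orderOf_injective (MulAut.conj b).toMonoidHom (MulAut.conj b).injective a
      simp only [Blocks.pRegularPart_apply]
      rw [ho,
        Char.isClassFunction_of_isIrr χ.2 a b]
    · obtain ⟨c, hc⟩ := hv C χ (hB χ hχ)
      refine ⟨c, fun k hk => ?_⟩
      simp only [Blocks.pRegularPart_apply, u]
      split_ifs with h
      · rw [mul_zero]
      · exact hc k hk
  rw [Cfsg.blockRank]
  refine (Submodule.finrank_mono hle).trans ?_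
  let E : W →ₗ[ℂ] (ι → ℂ) :=
    { toFun := fun f C => (f : G → ℂ) (pick C)
      map_add' := fun _ _ => rfl
      map_smul' := fun _ _ => rfl }
  have hinj : Function.Injective E := by
    refine (injective_iff_map_eq_zero E).2 fun f hf0 => ?_
    obtain ⟨f, hcl, hsupp, hcos⟩ := f
    refine Subtype.ext (funext fun w => ?_)
    show f w = 0
    by_cases hw : p ∣ orderOf w
    · exact hsupp w hw
    let C : ι := ⟨ConjClasses.mk (w : G ⧸ K), (w : G ⧸ K), rfl,
      fun h => hw (h.trans (orderOf_map_dvd (QuotientGroup.mk' K) w))⟩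
    obtain ⟨t, ht⟩ := isConj_iff.1 (ConjClasses.mk_eq_mk_iff_isConj.1 (hg C).symm)
    obtain ⟨t, rfl⟩ := QuotientGroup.mk_surjective t
    obtain ⟨k, hk, he⟩ : ∃ k ∈ K, t * w * t⁻¹ = g C * k := by
      refine ⟨(g C)⁻¹ * (t * w * t⁻¹), ?_, by group⟩
      rw [← QuotientGroup.eq]
      exact ht.symm
    rw [← hcl w t, he]
    obtain ⟨c, hc⟩ := hcos C
    have h0 : f (pick C) = 0 := congrFun hf0 C
    rw [hc k hk]
    by_cases hex : ∃ k ∈ K, u C (g C * k) ≠ 0
    · simp only [pick, dif_pos hex] at h0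
      rw [hc _ hex.choose_spec.1, mul_eq_zero] at h0
      rw [h0.resolve_right hex.choose_spec.2, zero_mul]
    · push Not at hex
      rw [hex k hk, mul_zero]
  refine (LinearMap.finrank_le_finrank_of_injective hinj).trans (le_of_eq ?_)
  rw [Module.finrank_fintype_fun_eq_card, Nat.card_eq_fintype_card]

end Cfsg.Agent.BlockChar.Tame
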