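import Cfsg.Agent.BlockChar.Tame.Group
import Cfsg.Agent.Layer.PConstraint
import Mathlib.GroupTheory.Perm.Cycle.Type

/-!
# Elements of odd order in a solvable group with tame Sylow 2-subgroup and trivial odd core
-/

set_option autoImplicit false

namespace Cfsg.Agent.BlockChar.Tame

universe u

variable {H : Type u} [Group H] [Finite H]

/-- The nontrivial elements of odd order form at most one class. -/
theorem isConj_of_odd [Group.IsSolvable H] (hcore : Cfsg.pPrimeCore 2 H = ⊥) {S : Sylow 2 H}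
    {x y : H} {N : ℕ} (h : IsTame (S : Subgroup H) x y N) {a b : H}
    (ha : Odd (orderOf a)) (hb : Odd (orderOf b)) (ha1 : a ≠ 1) (hb1 : b ≠ 1) : IsConj a b := by
  classical
  set R := Cfsg.pCore 2 H with hR
  haveI hRn : R.Normal := inferInstance
  have hRS : R ≤ S := Core.pCore_le_sylow S
  have hCR : Subgroup.centralizer (R : Set H) ≤ R :=
    (Layer.pCoreSelfCentral_iff_layer hcore).2 Layer.layer_eq_bot_of_isSolvable
  have hRconj : ∀ g : H, ∀ r ∈ R, g * r * g⁻¹ ∈ R := fun g r hr => hRn.conj_mem r hr g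
  -- elements of odd order centralizing `R` are trivial
  have hone : ∀ g : H, Odd (orderOf g) → (∀ r ∈ R, g * r * g⁻¹ = r) → g = 1 := by
    intro g hg hc
    have hgR : g ∈ R := hCR (Subgroup.mem_centralizer_iff.2 fun r hr => by
      have := hc r hr
      rw [mul_inv_eq_iff_eq_mul] at this
      exact this.symm)
    obtain ⟨k, hk⟩ := h.orderOf_eq_pow_two (hRS hgR)
    rw [hk] at hg
    rcases k with - | k
    · rw [pow_zero, orderOf_eq_one_iff] at hk; exact hk
    · exact absurd (Nat.even_pow.2 ⟨even_two, k.succ_ne_zero⟩) (Nat.not_even_iff_odd.2 hg)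
  obtain ⟨c, hc⟩ := IsTame.exists_generator (x := x) R
  have hcR : c ∈ R ⊓ Subgroup.zpowers x := hc ▸ Subgroup.mem_zpowers c
  -- the cyclic part is small
  have hsmall : c ^ 4 = 1 ∧ (y * x * y⁻¹ = x⁻¹ → c * c = 1) := by
    refine ⟨by_contra fun hne => ha1 (hone a ha
        (h.centralize_of_big hRS ha (fun q hq => hRconj a q hq) hc (Or.inl hne))),
      fun hr => by_contra fun hne => ha1 (hone a ha
        (h.centralize_of_big hRS ha (fun q hq => hRconj a q hq) hc (Or.inr ⟨hr, hne⟩)))⟩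
  -- `R` is not cyclic
  obtain ⟨r₀, hr₀R, hr₀X⟩ : ∃ r ∈ R, r ∉ Subgroup.zpowers x := by
    by_contra! hall
    exact ha1 (hone a ha (h.centralize_of_stable hRS ha (fun q hq => hRconj a q hq) hc
      (hall _ (hRconj a c hcR.1))))
  have hco : orderOf c ∣ 4 := orderOf_dvd_of_pow_eq_one hsmall.1
  -- the conjugates of the cyclic part
  let Ω : Set (Subgroup H) := Set.range fun g : H => Subgroup.zpowers (g * c * g⁻¹)
  have hΩfin : Ω.Finite := Set.finite_range _
  have hΩcard : Nat.card Ω ≤ 3 := by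
    -- conjugates outside the cyclic subgroup with the same parity span the same subgroup
    have hkey : ∀ (g g' : H) (i j : ℤ), g * c * g⁻¹ ∉ Subgroup.zpowers x →
        g * c * g⁻¹ = r₀ * c ^ i → g' * c * g'⁻¹ = r₀ * c ^ j → (Even i ↔ Even j) →
        Subgroup.zpowers (g' * c * g'⁻¹) = Subgroup.zpowers (g * c * g⁻¹) := by
      intro g g' i j hdX hi hj hpar
      have hd : g * c * g⁻¹ ∈ R := hRconj g c hcR.1
      have hord : ∀ k : H, orderOf (k * c * k⁻¹) = orderOf c := fun k => by
        simpa using orderOf_injective (MulAut.conj k).toMonoidHom (MulAut.conj k).injective c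
      refine Subgroup.eq_of_le_of_card_ge (Subgroup.zpowers_le.2 ?_)
        (by rw [Nat.card_zpowers, Nat.card_zpowers, hord, hord])
      obtain ⟨m, hm⟩ : Even (j - i) := Int.even_sub.2 hpar.symm
      have e : g' * c * g'⁻¹ = g * c * g⁻¹ * (c ^ (2 : ℕ)) ^ m := by
        rw [hi, hj, mul_assoc, ← zpow_natCast c 2, ← zpow_mul, ← zpow_add]
        congr 2
        push_cast
        omega
      rw [e]
      refine Subgroup.mul_mem _ (Subgroup.mem_zpowers _) (Subgroup.zpow_mem _ ?_ m)
      rcases h.sq_eq_one_cases (Subgroup.pow_mem _ hcR.2 2)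
        (by rw [← pow_add]; exact hsmall.1) with e2 | e2
      · rw [e2]; exact one_mem _
      · have hd2 : (g * c * g⁻¹) * (g * c * g⁻¹) ≠ 1 := fun e' => h.pow_half_ne_one (by
          rw [← e2]
          have h1 : (g * c * g⁻¹) ^ 2 = 1 := by rw [pow_two, e']
          rw [conj_pow] at h1
          simpa using h1)
        rw [e2, ← ((h.sq_outside (hRS hd) hdX).1).resolve_left hd2]
        exact Subgroup.mul_mem _ (Subgroup.mem_zpowers _) (Subgroup.mem_zpowers _)
    let A : Bool → Subgroup H := fun t =>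
      if ht : ∃ (g : H) (i : ℤ), g * c * g⁻¹ ∉ Subgroup.zpowers x ∧ g * c * g⁻¹ = r₀ * c ^ i ∧
        decide (Even i) = t
      then Subgroup.zpowers (ht.choose * c * ht.choose⁻¹) else Subgroup.zpowers c
    have hsub : Ω ⊆ {Subgroup.zpowers c, A true, A false} := by
      rintro _ ⟨g, rfl⟩
      have hd : g * c * g⁻¹ ∈ R := hRconj g c hcR.1
      simp only [Set.mem_insert_iff, Set.mem_singleton_iff]
      by_cases hdX : g * c * g⁻¹ ∈ Subgroup.zpowers x
      · left
        have hdc : g * c * g⁻¹ ∈ Subgroup.zpowers c := hc ▸ ⟨hd, hdX⟩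
        refine Subgroup.eq_of_le_of_card_ge (Subgroup.zpowers_le.2 hdc) (le_of_eq ?_)
        rw [Nat.card_zpowers, Nat.card_zpowers]
        simpa using (orderOf_injective (MulAut.conj g).toMonoidHom (MulAut.conj g).injective c).symm
      · have hq : r₀⁻¹ * (g * c * g⁻¹) ∈ Subgroup.zpowers c := hc ▸ ⟨R.mul_mem (R.inv_mem hr₀R) hd,
          (h.mul_mem_iff (Subgroup.inv_mem _ (hRS hr₀R)) (hRS hd)).2
            ⟨fun hh => absurd (inv_mem_iff.1 hh) hr₀X, fun hh => absurd hh hdX⟩⟩
        obtain ⟨i, hi⟩ := hq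
        replace hi : g * c * g⁻¹ = r₀ * c ^ i := by
          rw [show c ^ i = r₀⁻¹ * (g * c * g⁻¹) from hi, mul_inv_cancel_left]
        have hA : A (decide (Even i)) = Subgroup.zpowers (g * c * g⁻¹) := by
          have ht : ∃ (g' : H) (i' : ℤ), g' * c * g'⁻¹ ∉ Subgroup.zpowers x ∧
              g' * c * g'⁻¹ = r₀ * c ^ i' ∧ decide (Even i') = decide (Even i) :=
            ⟨g, i, hdX, hi, rfl⟩
          simp only [A, dif_pos ht]
          obtain ⟨i', hX', hi', hp⟩ := ht.choose_spec
          exact (hkey _ g i' i hX' hi' hi (decide_eq_decide.1 hp)).symm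
        cases hev : decide (Even i) <;> rw [hev] at hA
        · right; right; exact hA.symm
        · right; left; exact hA.symm
    calc Nat.card Ω ≤ Nat.card ({Subgroup.zpowers c, A true, A false} : Set (Subgroup H)) :=
        Nat.card_mono (Set.toFinite _) hsub
      _ ≤ 3 := by
        rw [Nat.card_coe_set_eq]
        exact (Set.ncard_insert_le _ _).trans (Nat.succ_le_succ
          ((Set.ncard_insert_le _ _).trans (by rw [Set.ncard_singleton])))
  -- the action on the conjugates
  haveI : Finite Ω := hΩfin.to_subtype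
  haveI : Fintype Ω := Fintype.ofFinite Ω
  have hmap : ∀ (g : H) (K : Ω), (K : Subgroup H).map (MulAut.conj g).toMonoidHom ∈ Ω := by
    rintro g ⟨_, k, rfl⟩
    refine ⟨g * k, ?_⟩
    rw [MonoidHom.map_zpowers]
    congr 1
    simp [mul_assoc]
  let act : H → Ω → Ω := fun g K => ⟨_, hmap g K⟩
  have hact1 : ∀ K, act 1 K = K := fun K => Subtype.ext (by
    show (K : Subgroup H).map _ = (K : Subgroup H)
    rw [show (MulAut.conj (1 : H)).toMonoidHom = MonoidHom.id H by ext t; simp, Subgroup.map_id])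
  have hactm : ∀ g g' K, act (g * g') K = act g (act g' K) := fun g g' K => Subtype.ext (by
    show (K : Subgroup H).map _ = ((K : Subgroup H).map _).map _
    rw [Subgroup.map_map]
    congr 1
    ext t
    simp [mul_assoc])
  let φ : H →* Equiv.Perm Ω := MonoidHom.mk'
    (fun g => ⟨act g, act g⁻¹, fun K => by rw [← hactm, inv_mul_cancel, hact1],
      fun K => by rw [← hactm, mul_inv_cancel, hact1]⟩)
    fun g g' => Equiv.ext fun K => hactm g g' K
  set W := φ.ker with hW
  have hWtriv : ∀ g ∈ W, Odd (orderOf g) → g = 1 := by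
    intro g hg hodd
    refine hone g hodd (h.centralize_of_stable hRS hodd (fun q hq => hRconj g q hq) hc ?_)
    have hc0 : Subgroup.zpowers c ∈ Ω := ⟨1, by simp⟩
    have e := congrArg Subtype.val (Equiv.ext_iff.1 (MonoidHom.mem_ker.1 hg) ⟨_, hc0⟩)
    change (Subgroup.zpowers c).map (MulAut.conj g).toMonoidHom = Subgroup.zpowers c at e
    have hmem : g * c * g⁻¹ ∈ Subgroup.zpowers c :=
      e ▸ Subgroup.mem_map_of_mem _ (Subgroup.mem_zpowers c)
    exact (hc.symm ▸ hmem : g * c * g⁻¹ ∈ R ⊓ Subgroup.zpowers x).2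
  have hW2 : IsPGroup 2 W := by
    refine IsPGroup.iff_orderOf.2 fun ⟨w, hw⟩ => ?_
    rw [Subgroup.orderOf_mk]
    obtain ⟨k, m, hm, he⟩ := Nat.exists_eq_two_pow_mul_odd (orderOf_pos w).ne'
    refine ⟨k, ?_⟩
    have h1 : orderOf (w ^ 2 ^ k) = m := by
      rw [orderOf_pow, he, Nat.gcd_mul_right_left, Nat.mul_div_cancel_left _ (pow_pos two_pos k)]
    have h2 := hWtriv _ (W.pow_mem hw _) (h1 ▸ hm)
    have h3 : m = 1 := by rw [← h1, h2, orderOf_one]
    rw [he, h3, mul_one]
  have hWR : W ≤ R := Core.le_pCore hW2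
  have hrange : Nat.card φ.range ∣ 6 := by
    refine (Subgroup.card_subgroup_dvd_card _).trans ?_
    rw [Nat.card_perm]
    exact (Nat.factorial_dvd_factorial hΩcard).trans (by decide)
  have hord3 : ∀ g : H, Odd (orderOf g) → g ≠ 1 → orderOf g = 3 ∧ φ g ≠ 1 := by
    intro g hg hg1
    have hne : φ g ≠ 1 := fun e => hg1 (hWtriv g e hg)
    have h6 : orderOf (φ g) ∣ 6 := by
      rw [← Subgroup.orderOf_mk (φ g) (show φ g ∈ φ.range from ⟨g, rfl⟩)]
      exact (orderOf_dvd_natCard _).trans hrange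
    have hoddφ : Odd (orderOf (φ g)) := hg.of_dvd_nat (orderOf_map_dvd φ g)
    have h3' : orderOf (φ g) ∣ 3 := by
      refine Nat.Coprime.dvd_of_dvd_mul_left (Nat.coprime_two_right.2 hoddφ) ?_
      exact h6
    refine ⟨?_, hne⟩
    have h3 : g ^ 3 = 1 := hWtriv _ (MonoidHom.mem_ker.2 (by
      rw [map_pow]; exact orderOf_dvd_iff_pow_eq_one.1 h3'))
      (hg.of_dvd_nat (orderOf_pow_dvd 3))
    rcases (Nat.dvd_prime Nat.prime_three).1 (orderOf_dvd_of_pow_eq_one h3) with e | e
    · exact absurd (orderOf_eq_one_iff.1 e) hg1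
    · exact e
  obtain ⟨ha3, haφ⟩ := hord3 a ha ha1
  obtain ⟨hb3, -⟩ := hord3 b hb hb1
  have hφa : orderOf (φ a) = 3 := by
    rcases (Nat.dvd_prime Nat.prime_three).1 (ha3 ▸ orderOf_map_dvd φ a) with e | e
    · exact absurd (orderOf_eq_one_iff.1 e) haφ
    · exact e
  have hcardH : Nat.card H = Nat.card W * Nat.card φ.range := by
    rw [← Subgroup.card_mul_index W, hW, Subgroup.index_ker]
  have hSW : ¬ Nat.card (S : Subgroup H) ∣ Nat.card W := by
    intro hd
    have h1 : (S : Subgroup H) = R := (Subgroup.eq_of_le_of_card_ge hRS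
      ((Nat.le_of_dvd Nat.card_pos hd).trans (Subgroup.card_le_of_le hWR))).symm
    have hxc : x ∈ Subgroup.zpowers c := hc ▸ ⟨h1 ▸ h.mem_x, Subgroup.mem_zpowers x⟩
    have h2 : orderOf x ∣ orderOf c := orderOf_dvd_of_mem_zpowers hxc
    rw [h.order_x] at h2
    have hN2 : 2 ^ N ∣ 2 ^ 2 := h2.trans hco
    rw [Nat.pow_dvd_pow_iff_le_right (by norm_num : 1 < 2)] at hN2
    have hN : N = 2 := le_antisymm hN2 h.two_le
    have hdih : y * x * y⁻¹ = x⁻¹ := h.rel.resolve_right fun hh => by omega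
    have h3 := orderOf_dvd_of_pow_eq_one (show c ^ 2 = 1 by rw [pow_two, hsmall.2 hdih])
    have h4 := h2.trans h3
    rw [hN] at h4
    norm_num at h4
  have h6 : Nat.card φ.range = 6 := by
    have h3 : 3 ∣ Nat.card φ.range := by
      rw [← hφa, ← Subgroup.orderOf_mk (φ a) (show φ a ∈ φ.range from ⟨a, rfl⟩)]
      exact orderOf_dvd_natCard _
    obtain ⟨k, hk⟩ := h3
    have hk2 : k ∣ 2 := by
      rw [hk] at hrange
      exact Nat.dvd_of_mul_dvd_mul_left (by norm_num) (show 3 * k ∣ 3 * 2 from hrange)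
    rcases (Nat.dvd_prime Nat.prime_two).1 hk2 with rfl | rfl
    · refine absurd ?_ hSW
      have h1 : Nat.card (S : Subgroup H) ∣ Nat.card W * 3 := by
        have := Subgroup.card_subgroup_dvd_card (S : Subgroup H)
        rwa [hcardH, hk, mul_one] at this
      rw [h.card_eq] at h1 ⊢
      exact (Nat.Coprime.pow_left _ (by norm_num : Nat.Coprime 2 3)).dvd_of_dvd_mul_right h1
    · rw [hk]
  -- the subgroups of order three are Sylow
  haveI : Fact (Nat.Prime 3) := ⟨Nat.prime_three⟩
  have h3part : ¬ 9 ∣ Nat.card H := by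
    obtain ⟨k, hk⟩ := IsPGroup.iff_card.1 hW2
    rw [hcardH, h6, hk]
    intro h9
    have h' : 3 ∣ 2 ^ (k + 1) := by
      refine Nat.dvd_of_mul_dvd_mul_left (show 0 < 3 by norm_num) (dvd_trans h9 ?_)
      rw [pow_succ]; exact dvd_of_eq (by ring)
    exact absurd (Nat.prime_three.dvd_of_dvd_pow h') (by norm_num)
  have hsyl : ∀ g : H, orderOf g = 3 → ∃ P : Sylow 3 H, (P : Subgroup H) = Subgroup.zpowers g := by
    intro g hg
    have hp : IsPGroup 3 (Subgroup.zpowers g) :=
      IsPGroup.of_card (n := 1) (by rw [Nat.card_zpowers, hg, pow_one])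
    obtain ⟨P, hP⟩ := hp.exists_le_sylow
    refine ⟨P, (Subgroup.eq_of_le_of_card_ge hP ?_).symm⟩
    obtain ⟨k, hk⟩ := IsPGroup.iff_card.1 P.2
    have h1 : k ≤ 1 := by
      by_contra hk1
      exact h3part (((pow_dvd_pow 3 (show 2 ≤ k by omega)).trans
        (hk ▸ Subgroup.card_subgroup_dvd_card (P : Subgroup H))))
    rw [Nat.card_zpowers, hg, hk]
    calc 3 ^ k ≤ 3 ^ 1 := Nat.pow_le_pow_right (by norm_num) h1
      _ = 3 := by norm_num
  obtain ⟨Pa, hPa⟩ := hsyl a ha3
  obtain ⟨Pb, hPb⟩ := hsyl b hb3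
  obtain ⟨k, hk⟩ := MulAction.exists_smul_eq H Pb Pa
  have hkb : k * b * k⁻¹ ∈ Subgroup.zpowers a := by
    rw [← hPa, ← hk, Sylow.coe_subgroup_smul, hPb]
    exact Subgroup.mem_map_of_mem _ (Subgroup.mem_zpowers b)
  have hcases : ∀ e ∈ Subgroup.zpowers a, e ≠ 1 → e = a ∨ e = a⁻¹ := by
    intro e he he1
    obtain ⟨i, rfl⟩ := he
    have h3 : a ^ (3 : ℤ) = 1 := by rw [show (3 : ℤ) = ((3 : ℕ) : ℤ) by norm_num, zpow_natCast, ← ha3, pow_orderOf_eq_one]
    have hi : i = 3 * (i / 3) + i % 3 := (Int.mul_ediv_add_emod i 3).symm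
    have hr : i % 3 = 0 ∨ i % 3 = 1 ∨ i % 3 = 2 := by omega
    show a ^ i = a ∨ a ^ i = a⁻¹
    replace he1 : a ^ i ≠ 1 := he1
    rw [hi, zpow_add, zpow_mul, h3, one_zpow, one_mul] at he1 ⊢
    rcases hr with e | e | e <;> rw [e] at he1 ⊢
    · exact absurd (zpow_zero a) he1
    · left; exact zpow_one a
    · right
      rw [eq_inv_iff_mul_eq_one]
      calc a ^ (2 : ℤ) * a = a ^ (3 : ℤ) := by rw [← zpow_add_one]; norm_num
        _ = 1 := h3
  -- `a` is inverted
  have hinv : IsConj a a⁻¹ := by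
    set L := (Subgroup.zpowers (φ a)).comap φ with hL
    haveI : Fintype φ.range := Fintype.ofFinite _
    have hAn : L.Normal := by
      have h2 : ((Subgroup.zpowers (φ a)).subgroupOf φ.range).index = 2 := by
        have h1 := ((Subgroup.zpowers (φ a)).subgroupOf φ.range).card_mul_index
        rw [Nat.card_congr (Subgroup.subgroupOfEquivOfLe (Subgroup.zpowers_le.2
          (show φ a ∈ φ.range from ⟨a, rfl⟩))).toEquiv, Nat.card_zpowers, hφa, h6] at h1
        omega
      have hn := Subgroup.normal_of_index_eq_two h2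
      refine ⟨fun g hg k => ?_⟩
      have := hn.conj_mem ⟨φ g, g, rfl⟩ hg ⟨φ k, k, rfl⟩
      simpa [hL, Subgroup.mem_subgroupOf] using this
    have haL : Subgroup.zpowers a ≤ L := Subgroup.zpowers_le.2 (Subgroup.mem_zpowers (φ a))
    have htop : Subgroup.normalizer ((Pa : Subgroup H) : Set H) ⊔ L = ⊤ :=
      Sylow.normalizer_sup_eq_top' Pa (hPa ▸ haL)
    obtain ⟨n, hn, hnL⟩ : ∃ n ∈ Subgroup.normalizer ((Pa : Subgroup H) : Set H), n ∉ L := by
      by_contra! hall
      have hLt : L = ⊤ := by rw [← htop]; exact (sup_of_le_right hall).symm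
      have h1 : φ.range ≤ Subgroup.zpowers (φ a) := by
        rintro _ ⟨g, rfl⟩
        exact (hLt ▸ Subgroup.mem_top g : g ∈ L)
      have h2 := Subgroup.card_le_of_le h1
      rw [h6, Nat.card_zpowers, hφa] at h2
      omega
    have hna : n * a * n⁻¹ ∈ Subgroup.zpowers a := by
      have := (Subgroup.mem_normalizer_iff.1 hn a).1 (hPa ▸ Subgroup.mem_zpowers a)
      rwa [hPa] at this
    rcases hcases _ hna (fun e => ha1 (by simpa using e)) with e | e
    · exfalso
      -- otherwise `n` centralizes `φ a` and the range would be abelian of order six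
      have hcomm : Commute (φ n) (φ a) := by
        have := congrArg φ e
        rw [map_mul, map_mul, map_inv, mul_inv_eq_iff_eq_mul] at this
        exact this
      exact hnL (mem_zpowers_of_commute hΩcard hφa hcomm)
    · exact isConj_iff.2 ⟨n, e⟩
  have hab : IsConj b a ∨ IsConj b a⁻¹ := by
    rcases hcases _ hkb (fun e => hb1 (by simpa using e)) with e | e
    · exact Or.inl (isConj_iff.2 ⟨k, e⟩)
    · exact Or.inr (isConj_iff.2 ⟨k, e⟩)
  rcases hab with e | e
  · exact e.symm
  · exact hinv.trans e.symm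
where
  /-- In the symmetric group on three points a 3-cycle is its own centralizer. -/
  mem_zpowers_of_commute {α : Type u} [Finite α] (hα : Nat.card α ≤ 3) {σ τ : Equiv.Perm α}
      (hσ : orderOf σ = 3) (hc : Commute τ σ) : τ ∈ Subgroup.zpowers σ := by
    classical
    have := Fintype.ofFinite α
    haveI : Fact (Nat.Prime 3) := ⟨Nat.prime_three⟩
    have hsup : σ.support.card = 3 := by
      obtain ⟨n, hn⟩ := Equiv.Perm.cycleType_prime_order (σ := σ) (hσ ▸ Nat.prime_three)
      have h1 := Equiv.Perm.sum_cycleType σ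
      rw [hn, hσ, Multiset.sum_replicate, smul_eq_mul] at h1
      have h2 := Finset.card_le_univ σ.support
      rw [← Nat.card_eq_fintype_card] at h2
      rcases n with - | n <;> omega
    have hcyc : σ.IsCycle := Equiv.Perm.isCycle_of_prime_order (hσ ▸ Nat.prime_three)
      (by rw [hsup, hσ]; norm_num)
    have hfull : σ.support = Finset.univ := Finset.eq_univ_of_card _ (le_antisymm
      (Finset.card_le_univ _) (by rw [hsup, ← Nat.card_eq_fintype_card]; exact hα))
    obtain ⟨u, hu⟩ := hcyc.nonempty_support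
    obtain ⟨i, hi⟩ := hcyc.exists_zpow_eq (Equiv.Perm.mem_support.1 hu)
      (Equiv.Perm.mem_support.1 (hfull ▸ Finset.mem_univ (τ u)))
    refine ⟨i, Equiv.ext fun v => ?_⟩
    show (σ ^ i) v = τ v
    obtain ⟨j, rfl⟩ := hcyc.exists_zpow_eq (Equiv.Perm.mem_support.1 hu)
      (Equiv.Perm.mem_support.1 (hfull ▸ Finset.mem_univ v))
    have e1 := Equiv.Perm.ext_iff.1 (hc.zpow_right j).eq u
    simp only [Equiv.Perm.mul_apply] at e1
    rw [e1, ← hi, ← Equiv.Perm.mul_apply, ← Equiv.Perm.mul_apply, ← zpow_add, ← zpow_add, add_comm]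

end Cfsg.Agent.BlockChar.Tame
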