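import Cfsg.Agent.BlockChar.Tame.Fusion
import Cfsg.Agent.BlockChar.SubsectionCount
import Cfsg.Agent.BlockChar.CardBound
import Cfsg.Agent.BlockChar.RankLtCard
import Cfsg.Agent.BlockChar.KleinFour
import Cfsg.Agent.Blocks.Star.MajorBound
import Cfsg.Agent.BrauerPairs.Local
import Cfsg.Agent.S4541

/-!
# A block with dihedral defect group with one class of involutions outside the rotations
-/

set_option autoImplicit false

namespace Cfsg.Agent.BlockChar.Tame

open Cfsg.Agent Cfsg.Agent.Blocks Cfsg.Agent.BrauerPairs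

universe u

variable {G : Type u} [Group G] [Finite G] {M : Ideal Cfsg.AlgInt}

local notation "CG[" Q "]" => Subgroup.centralizer (SetLike.coe Q)

theorem mem_centralizer_zpowers (s a : G) :
    a ∈ CG[Subgroup.zpowers s] ↔ s * a = a * s := by
  rw [Subgroup.mem_centralizer_iff]
  exact ⟨fun h => h _ (Subgroup.mem_zpowers _), fun h u ⟨n, hn⟩ =>
    hn ▸ ((show Commute s a from h).zpow_left n).eq⟩

variable {B : Set (Cfsg.IrrCharacter G)} {D : Subgroup G} {e : Set (Cfsg.IrrCharacter CG[D])}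
  {x y : G} {N : ℕ}

/-- The centralizer in `D` of an involution outside the centre has order at most four. -/
theorem card_centralizer_le (h : IsTame D x y N) (hdih : y * x * y⁻¹ = x⁻¹) {s : G} (hs : s ∈ D)
    (hsX : s ∉ Subgroup.zpowers x) : Nat.card ↥(D ⊓ CG[Subgroup.zpowers s]) ≤ 4 := by
  classical
  have hsub : ((D ⊓ CG[Subgroup.zpowers s] : Subgroup G) : Set G) ⊆
      ↑({1, x ^ 2 ^ (N - 1), s⁻¹, x ^ 2 ^ (N - 1) * s⁻¹} : Finset G) := by
    rintro d ⟨hd, hdC⟩
    have hc := (mem_centralizer_zpowers s d).1 hdC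
    have key : ∀ c : G, c ∈ Subgroup.zpowers x → s * c = c * s →
        c = 1 ∨ c = x ^ 2 ^ (N - 1) := by
      intro c hc hcs
      refine h.sq_eq_one_cases hc ?_
      obtain ⟨i, rfl⟩ := hc
      have e1 : (x ^ i)⁻¹ = x ^ i := by
        calc (x ^ i)⁻¹ = (s * x * s⁻¹) ^ i := by rw [h.conj_zpowers hs hsX, hdih, inv_zpow]
          _ = s * x ^ i * s⁻¹ := conj_zpow
          _ = x ^ i := by rw [hcs, mul_inv_cancel_right]
      exact inv_eq_iff_mul_eq_one.1 e1
    by_cases hdX : d ∈ Subgroup.zpowers x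
    · rcases key d hdX hc with rfl | rfl <;> simp
    · rcases key (d * s) ((h.mul_mem_iff hd hs).2 (iff_of_false hdX hsX))
        (by rw [← mul_assoc, hc]) with e1 | e1 <;>
      · rw [← eq_mul_inv_iff_mul_eq] at e1
        subst e1
        simp
  calc Nat.card ↥(D ⊓ CG[Subgroup.zpowers s])
      ≤ Nat.card (↑({1, x ^ 2 ^ (N - 1), s⁻¹, x ^ 2 ^ (N - 1) * s⁻¹} : Finset G) : Set G) :=
        Nat.card_mono (Finset.finite_toSet _) hsub
    _ ≤ 4 := by
        rw [Nat.card_coe_set_eq, Set.ncard_coe_finset]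
        exact Finset.card_le_four

/-- At most four characters of height zero. -/
theorem height_zero_le_four (hM : Cfsg.IsPModular 2 M) (hB : Cfsg.IsPBlock M B)
    (hmax : Cfsg.IsMaximalBrauerPair 2 M B D e) (h : IsTame D x y N) (hdih : y * x * y⁻¹ = x⁻¹)
    (hne : ∀ g : G, g * y * g⁻¹ ≠ x ^ 2 ^ (N - 1)) :
    Nat.card {χ : Cfsg.IrrCharacter G // χ ∈ B ∧ Cfsg.blockHeight 2 B (χ : G → ℂ) = 0} ≤ 4 := by
  classical
  have := Fact.mk Nat.prime_two
  have := Fintype.ofFinite G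
  obtain ⟨f, hf⟩ := exists_pair hM hmax.1.1 (Subgroup.zpowers_le.2 h.mem_y)
  have hQf := isBrauerPair_of_subpairLE hmax.1.1 hf
  obtain ⟨k, hk, hdef⟩ := exists_conj_isDefectGroup hM hmax hf hQf le_rfl
    (Subgroup.centralizer_le_normalizer _) hQf.2 fun t => (sbc_apply f t).symm
  set s := k * y * k⁻¹ with hs
  have hQ' : (Subgroup.zpowers y).map (MulAut.conj k).toMonoidHom = Subgroup.zpowers s :=
    MonoidHom.map_zpowers _ _
  have hsD : s ∈ D := BlockChar.le_of_subpairLE hk ⟨y, Subgroup.mem_zpowers y, rfl⟩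
  have hsX : s ∉ Subgroup.zpowers x := fun hX => by
    rcases h.sq_eq_one_cases hX (by
      rw [hs, show k * y * k⁻¹ * (k * y * k⁻¹) = k * (y * y) * k⁻¹ by group, h.sq_y]; group) with e1 | e1
    · exact h.notMem_y (by rw [conj_eq_one_iff.1 e1]; exact one_mem _)
    · exact hne k e1
  have hD' : Cfsg.IsDefectGroup 2 M (Cfsg.conjBlock (Subgroup.zpowers y) k f) ((D ⊓ CG[(Subgroup.zpowers y).map (MulAut.conj k).toMonoidHom]).subgroupOf CG[(Subgroup.zpowers y).map (MulAut.conj k).toMonoidHom]) := by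
    rw [conjBlock_eq_mapBlock]
    exact (hdef CG[(Subgroup.zpowers y).map (MulAut.conj k).toMonoidHom] fun z => BlockChar.mem_centralizer_iff_conj rfl z).1
  have hpair : Cfsg.IsBrauerPairOf 2 M B _ (Cfsg.conjBlock (Subgroup.zpowers y) k f) := (isBrauerPairOf_iff_of_subpairLE hM hk B).1 hmax.1
  letI := Fintype.ofFinite CG[(Subgroup.zpowers y).map (MulAut.conj k).toMonoidHom]
  have hd2 : Cfsg.blockDefect 2 (Cfsg.conjBlock (Subgroup.zpowers y) k f) ≤ 2 := by
    have h1 := BlockChar.card_defectGroup hM hpair.1.2 hD'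
    rw [Nat.card_congr (Subgroup.subgroupOfEquivOfLe inf_le_right).toEquiv] at h1
    have h2 : 2 ^ Cfsg.blockDefect 2 (Cfsg.conjBlock (Subgroup.zpowers y) k f) ≤ 2 ^ 2 := by
      rw [← h1, show D ⊓ CG[(Subgroup.zpowers y).map (MulAut.conj k).toMonoidHom] =
        D ⊓ CG[Subgroup.zpowers s] from congrArg (fun U : Subgroup G => D ⊓ CG[U]) hQ']
      exact card_centralizer_le h hdih hsD hsX
    exact (Nat.pow_le_pow_iff_right (by norm_num)).1 h2
  have hk4 : Nat.card (Cfsg.conjBlock (Subgroup.zpowers y) k f) ≤ 2 ^ Cfsg.blockDefect 2 (Cfsg.conjBlock (Subgroup.zpowers y) k f) :=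
    (card_le_pow_defect hM _ CG[(Subgroup.zpowers y).map (MulAut.conj k).toMonoidHom] (Cfsg.conjBlock (Subgroup.zpowers y) k f) hpair.1.2 rfl).1 hd2
  have h4 : 2 ^ Cfsg.blockDefect 2 (Cfsg.conjBlock (Subgroup.zpowers y) k f) ≤ 4 := Nat.pow_le_pow_right (by norm_num) hd2
  have hl : Cfsg.blockRank 2 (Cfsg.conjBlock (Subgroup.zpowers y) k f) ≤ 3 := by
    rcases Nat.eq_zero_or_pos (Cfsg.blockDefect 2 (Cfsg.conjBlock (Subgroup.zpowers y) k f)) with h0 | h0
    · have := blockRank_le_card (p := 2) (Cfsg.conjBlock (Subgroup.zpowers y) k f)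
      rw [h0, pow_zero] at hk4
      omega
    · have := blockRank_lt_card hM hpair.1.2 h0
      omega
  have hsord : ∃ j : ℕ, orderOf s = 2 ^ j := h.orderOf_eq_pow_two hsD
  have heq : CG[(Subgroup.zpowers y).map (MulAut.conj k).toMonoidHom] = Subgroup.centralizer ({s} : Set G) := by
    rw [hQ']
    ext a
    rw [mem_centralizer_zpowers, Subgroup.mem_centralizer_singleton_iff]
    exact eq_comm
  have key : ∀ (C : Subgroup G), C = Subgroup.centralizer ({s} : Set G) →
      ∀ b : Set (Cfsg.IrrCharacter C), Cfsg.IsInducedBlock M C b B → Cfsg.blockRank 2 b ≤ 3 →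
      Nat.card {χ : Cfsg.IrrCharacter G // χ ∈ B ∧ Cfsg.blockHeight 2 B (χ : G → ℂ) = 0} ≤
        2 ^ Cfsg.blockDefect 2 b := by
    rintro C rfl b hb hl
    exact (S4541.result M hM B hB s hsord b hb).2.2 hl
  exact (key CG[(Subgroup.zpowers y).map (MulAut.conj k).toMonoidHom] heq (Cfsg.conjBlock (Subgroup.zpowers y) k f) (isInducedBlock_of_pair hM hpair) hl).trans h4

/-- The upper bound on the number of characters. -/
theorem four_mul_card_le (hM : Cfsg.IsPModular 2 M) (hB : Cfsg.IsPBlock M B)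
    (hmax : Cfsg.IsMaximalBrauerPair 2 M B D e) (h : IsTame D x y N) (hdih : y * x * y⁻¹ = x⁻¹) :
    4 * Nat.card B ≤ 2 ^ (N + 1) + 3 *
      Nat.card {χ : Cfsg.IrrCharacter G // χ ∈ B ∧ Cfsg.blockHeight 2 B (χ : G → ℂ) = 0} := by
  classical
  have := Fact.mk Nat.prime_two
  have := Fintype.ofFinite G
  obtain ⟨f, hf⟩ := exists_pair hM hmax.1.1 (Subgroup.zpowers_le.2 h.half_mem)
  have hQf := isBrauerPair_of_subpairLE hmax.1.1 hf
  letI := Fintype.ofFinite CG[Subgroup.zpowers (x ^ 2 ^ (N - 1))]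
  have hDC : D ≤ CG[Subgroup.zpowers (x ^ 2 ^ (N - 1))] := fun d hd => by
    rw [mem_centralizer_zpowers]
    by_cases hdX : d ∈ Subgroup.zpowers x
    · obtain ⟨i, rfl⟩ := hdX
      exact ((Commute.refl x).pow_left _ |>.zpow_right i).eq
    · have e1 : d * (x ^ 2 ^ (N - 1)) * d⁻¹ = (x ^ 2 ^ (N - 1)) := by
        rw [← conj_pow, h.conj_zpowers hd hdX, hdih, inv_pow, inv_eq_iff_mul_eq_one,
          h.half_mul_self]
      exact (mul_inv_eq_iff_eq_mul.1 e1).symm
  have hDdef : Cfsg.IsDefectGroup 2 M f ((D ⊓ CG[Subgroup.zpowers (x ^ 2 ^ (N - 1))]).subgroupOf CG[Subgroup.zpowers (x ^ 2 ^ (N - 1))]) :=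
    (isDefectGroup_iff_max hM hmax hf le_rfl (Subgroup.centralizer_le_normalizer _) hQf.2
      fun t => (sbc_apply f t).symm).2 fun g _ => by
        rw [inf_eq_left.2 hDC]; exact Subgroup.card_le_of_le inf_le_left
  rw [inf_eq_left.2 hDC] at hDdef
  have hd : Cfsg.blockDefect 2 B = N + 1 := by
    have h1 := BlockChar.card_defectGroup hM hB (isDefectGroup_of_maximal hM hmax)
    rw [h.card_eq] at h1
    exact (Nat.pow_right_injective le_rfl h1).symm
  have hdf : Cfsg.blockDefect 2 f = N + 1 := by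
    have h1 := BlockChar.card_defectGroup hM hQf.2 hDdef
    rw [(h.subgroupOf hDC).card_eq] at h1
    exact (Nat.pow_right_injective le_rfl h1).symm
  have hl : Cfsg.blockRank 2 f = 1 :=
    rank_one_of_dihedral hM hQf.2 hDdef (h.subgroupOf hDC) (Subtype.ext hdih)
      (Subgroup.mem_center_iff.2 fun t => Subtype.ext
        ((mem_centralizer_zpowers (x ^ 2 ^ (N - 1)) (t : G)).1 t.2).symm)
  have hpair : Cfsg.IsBrauerPairOf 2 M B _ f := (isBrauerPairOf_iff_of_subpairLE hM hf B).1 hmax.1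
  obtain ⟨a, ha, hsum⟩ := Star.major_means hM (x := x ^ 2 ^ (N - 1)) (H := CG[Subgroup.zpowers (x ^ 2 ^ (N - 1))]) (B := B) (b := f)
    (mem_centralizer_zpowers (x ^ 2 ^ (N - 1))) (h.orderOf_eq_pow_two h.half_mem) (isInducedBlock_of_pair hM hpair)
    (by rw [hdf, hd])
  set S := B.toFinite.toFinset with hS
  have hcardS : Nat.card B = S.card := by rw [Nat.card_coe_set_eq, Set.ncard_eq_toFinset_card]
  have hcard0 : Nat.card {χ : Cfsg.IrrCharacter G // χ ∈ B ∧ Cfsg.blockHeight 2 B (χ : G → ℂ) = 0} =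
      (S.filter fun χ : Cfsg.IrrCharacter G => Cfsg.blockHeight 2 B (χ : G → ℂ) = 0).card := by
    rw [← Nat.card_eq_finsetCard]
    exact Nat.card_congr (Equiv.subtypeEquivRight fun χ => by simp [hS])
  have hle : ∀ χ ∈ S, (4 : ℤ) - 3 * (if Cfsg.blockHeight 2 B (χ : G → ℂ) = 0 then 1 else 0) ≤ a χ := by
    intro χ hχ
    obtain ⟨hpos, -, -, hne⟩ := ha χ (B.toFinite.mem_toFinset.1 hχ)
    split_ifs with h0
    · omega
    · obtain ⟨hdvd, -⟩ := hne h0
      have h4 : (4 : ℤ) ∣ a χ := by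
        refine dvd_trans ?_ hdvd
        exact (pow_dvd_pow 2 (show 2 ≤ Cfsg.blockHeight 2 B (χ : G → ℂ) + 1 by omega) : (2 : ℤ) ^ 2 ∣ _)
      have := Int.le_of_dvd hpos h4
      omega
  have h1 := Finset.sum_le_sum hle
  rw [hsum, hl, hd, Finset.sum_sub_distrib, ← Finset.mul_sum, Finset.sum_boole, Finset.sum_const,
    nsmul_eq_mul] at h1
  rw [hcardS, hcard0]
  push_cast at h1
  have : (4 : ℤ) * S.card ≤ 2 ^ (N + 1) + 3 *
      (S.filter fun χ : Cfsg.IrrCharacter G => Cfsg.blockHeight 2 B (χ : G → ℂ) = 0).card := by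
    linarith
  exact_mod_cast this

/-- The lower bound from the subsections. -/
theorem rank_add_le_card (hM : Cfsg.IsPModular 2 M) (hB : Cfsg.IsPBlock M B)
    (hmax : Cfsg.IsMaximalBrauerPair 2 M B D e) (h : IsTame D x y N) (hdih : y * x * y⁻¹ = x⁻¹)
    (hne : ∀ g : G, g * y * g⁻¹ ≠ x ^ 2 ^ (N - 1)) :
    Cfsg.blockRank 2 B + (2 ^ (N - 1) + 1) ≤ Nat.card B := by
  classical
  let s : Option (Fin (2 ^ (N - 1))) → G := fun o => o.elim y fun i => x ^ ((i : ℕ) + 1)
  have hN2 : 2 ^ (N - 1) * 2 = 2 ^ N := by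
    rw [← pow_succ, show N - 1 + 1 = N by have := h.two_le; omega]
  have hmem : ∀ o, s o ∈ D := fun o => by
    cases o with
    | none => exact h.mem_y
    | some i => exact D.pow_mem h.mem_x _
  have hsmall : ∀ i : Fin (2 ^ (N - 1)), x ^ ((i : ℕ) + 1) ≠ 1 := fun i e1 => by
    have h1 := Nat.le_of_dvd (by omega) (orderOf_dvd_of_pow_eq_one e1)
    rw [h.order_x] at h1
    have := i.2
    have := Nat.two_pow_pos (N - 1)
    omega
  have hs1 : ∀ o, s o ≠ 1 := fun o => by
    cases o with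
    | none => exact fun e1 => h.notMem_y (by rw [show y = 1 from e1]; exact one_mem _)
    | some i => exact hsmall i
  choose a ha using fun o => exists_pair hM hmax.1.1 (Subgroup.zpowers_le.2 (hmem o))
  have hcount := blockRank_add_card_le hM hB s hs1 (fun o => h.orderOf_eq_pow_two (hmem o)) a
    (fun o => (isBrauerPairOf_iff_of_subpairLE hM (ha o) B).1 hmax.1) ?_
  · simpa [Fintype.card_option] using hcount
  have hyx : ∀ (g : G) (i : Fin (2 ^ (N - 1))), g * y * g⁻¹ ≠ x ^ ((i : ℕ) + 1) := fun g i e1 => by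
    rcases h.sq_eq_one_cases (Subgroup.npow_mem_zpowers x ((i : ℕ) + 1)) (by
      rw [← e1, show g * y * g⁻¹ * (g * y * g⁻¹) = g * (y * y) * g⁻¹ by group, h.sq_y]; group)
      with e2 | e2
    · exact hsmall i e2
    · exact hne g (e1.trans e2)
  intro o o' g hg hpair
  rcases o with - | i <;> rcases o' with - | j
  · rfl
  · exact absurd hg (hyx g j)
  · refine absurd ?_ (hyx g⁻¹ i)
    rw [show y = g * x ^ ((i : ℕ) + 1) * g⁻¹ from hg.symm]
    group
  · have hlt : ∀ {m n : Fin (2 ^ (N - 1))}, (m : ℕ) + 1 < 2 ^ N := fun {m n} => by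
      have := m.2
      omega
    rcases rotation_fusion hM hmax h hdih (a := x ^ ((i : ℕ) + 1)) (b := x ^ ((j : ℕ) + 1))
      (Subgroup.npow_mem_zpowers x _) (Subgroup.npow_mem_zpowers x _) hg (ha (some i)) (ha (some j))
      hpair with e1 | e1
    · have h1 := pow_injOn_Iio_orderOf (by rw [h.order_x]; exact @hlt j i)
        (by rw [h.order_x]; exact @hlt i j) e1
      exact congrArg some (Fin.ext (by omega))
    · rw [eq_inv_iff_mul_eq_one, ← pow_add] at e1
      have h1 := Nat.le_of_dvd (by omega) (orderOf_dvd_of_pow_eq_one e1)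
      rw [h.order_x] at h1
      have := i.2
      have := j.2
      exact congrArg some (Fin.ext (by omega))

/-- At most two Brauer characters. -/
theorem rank_le_two (hM : Cfsg.IsPModular 2 M) (hB : Cfsg.IsPBlock M B)
    (hD : Cfsg.IsDefectGroup 2 M B D) (h : IsTame D x y N) (hdih : y * x * y⁻¹ = x⁻¹)
    (hne : ∀ g : G, g * y * g⁻¹ ≠ x ^ 2 ^ (N - 1)) : Cfsg.blockRank 2 B ≤ 2 := by
  obtain ⟨e, hmax⟩ := BrauerPairs.exists_maximal_on hM hB hD
  have h1 := height_zero_le_four hM hB hmax h hdih hne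
  have h2 := four_mul_card_le hM hB hmax h hdih
  have h3 := rank_add_le_card hM hB hmax h hdih hne
  have h4 : 2 ^ (N + 1) = 4 * 2 ^ (N - 1) := by
    rw [show (4 : ℕ) = 2 ^ 2 by norm_num, ← pow_add]
    congr 1
    have := h.two_le
    omega
  omega

end Cfsg.Agent.BlockChar.Tame
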