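import Cfsg.Agent.BlockChar.Tame.Nilpotent
import Cfsg.Agent.BrauerPairs.Saturation
import Cfsg.Agent.BrauerPairs.MaximalCriterion
import Cfsg.Agent.BrauerPairs.Nilpotent

/-!
# Fusion of the rotations in a block with dihedral defect group
-/

set_option autoImplicit false

namespace Cfsg.Agent.BlockChar.Tame

open Cfsg.Agent Cfsg.Agent.Blocks Cfsg.Agent.BrauerPairs

universe u

variable {G : Type u} [Group G] {M : Ideal Cfsg.AlgInt}

local notation "CG[" Q "]" => Subgroup.centralizer (SetLike.coe Q)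

/-- The elements sending `a` to `a` or `a⁻¹`. -/
def pmSubgroup (a : G) : Subgroup G where
  carrier := {g | g * a * g⁻¹ = a ∨ g * a * g⁻¹ = a⁻¹}
  one_mem' := by simp
  mul_mem' := fun {g k} hg hk => by
    show g * k * a * (g * k)⁻¹ = a ∨ g * k * a * (g * k)⁻¹ = a⁻¹
    rw [show g * k * a * (g * k)⁻¹ = g * (k * a * k⁻¹) * g⁻¹ by group]
    rcases hk with e | e <;> rw [e]
    · exact hg
    · rw [← conj_inv]
      rcases hg with e' | e' <;> rw [e'] <;> simp
  inv_mem' := fun {g} hg => by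
    show g⁻¹ * a * g⁻¹⁻¹ = a ∨ g⁻¹ * a * g⁻¹⁻¹ = a⁻¹
    rcases hg with e | e
    · left; conv_lhs => rw [← e]
      group
    · right; conv_lhs => rw [← inv_inv a, ← e]
      group

variable [Finite G] {B : Set (Cfsg.IrrCharacter G)} {D : Subgroup G}
  {e : Set (Cfsg.IrrCharacter CG[D])} {x y : G} {N : ℕ}

/-- The automorphisms of a maximal pair with dihedral group invert or fix every rotation. -/
theorem stabilizer_le_pm (hM : Cfsg.IsPModular 2 M) (hmax : Cfsg.IsMaximalBrauerPair 2 M B D e)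
    (h : IsTame D x y N) (hdih : y * x * y⁻¹ = x⁻¹) {a : G} (ha : a ∈ Subgroup.zpowers x) {g : G}
    (hg : conjPair g ⟨D, e⟩ = ⟨D, e⟩) : g ∈ pmSubgroup a := by
  have he := hmax.1.1.2
  have hp := Nat.prime_two
  have hpow : ∀ n : ℕ, conjPair (g ^ n) ⟨D, e⟩ = ⟨D, e⟩ := by
    intro n
    induction n with
    | zero => rw [pow_zero, conjPair_one]
    | succ n ih => rw [pow_succ', ← conjPair_conjPair, ih, hg]
  have hstab : ∀ n : ℕ, g ^ n ∈ Subgroup.normalizer (D : Set G) ∧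
      Cfsg.StabilizesBlock CG[D] e (g ^ n) := fun n => (conjPair_eq_iff hM he _).1 (hpow n)
  have haD : a ∈ D := h.zpowers_le ha
  have hcomm : ∀ {b c : G}, b ∈ Subgroup.zpowers x → c ∈ Subgroup.zpowers x → b * c = c * b := by
    rintro b c ⟨i, rfl⟩ ⟨j, rfl⟩
    exact ((Commute.refl x).zpow_zpow i j).eq
  have hDS : D ≤ pmSubgroup a := fun d hd => by
    by_cases hdX : d ∈ Subgroup.zpowers x
    · left; rw [hcomm hdX ha, mul_inv_cancel_right]
    · right
      obtain ⟨i, rfl⟩ := ha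
      show d * x ^ i * d⁻¹ = (x ^ i)⁻¹
      rw [← conj_zpow, h.conj_zpowers hd hdX, hdih, inv_zpow]
  have hCS : CG[D] ≤ pmSubgroup a := fun c hc => Or.inl (by
    rw [← Subgroup.mem_centralizer_iff.1 hc a haD, mul_inv_cancel_right])
  -- the `2`-part
  set u := pPartOf 2 g with hu
  set w := pPrimePartOf 2 g with hw
  obtain ⟨nu, hnu⟩ : ∃ n : ℕ, g ^ n = u := by
    exact ⟨_, rfl⟩
  obtain ⟨nw, hnw⟩ : ∃ n : ℕ, g ^ n = w := by
    exact ⟨_, rfl⟩
  have huS : u ∈ pmSubgroup a := by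
    refine sup_le hDS hCS (mem_sup_of_maximal hM hmax (hnu ▸ (hstab nu).1) (hnu ▸ (hstab nu).2) ?_)
    exact orderOf_pPartOf hp g
  have hwodd : Odd (orderOf w) := Nat.not_even_iff_odd.1 fun he' =>
    not_dvd_orderOf_pPrimePartOf hp g (even_iff_two_dvd.1 he')
  have hwN := Subgroup.mem_normalizer_iff.1 (hnw ▸ (hstab nw).1)
  -- the central involution is fixed
  have hz : w * x ^ 2 ^ (N - 1) * w⁻¹ = x ^ 2 ^ (N - 1) := by
    refine h.eq_half ((hwN _).1 h.half_mem) (fun e1 => h.pow_half_ne_one (conj_eq_one_iff.1 e1))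
      (by rw [show w * x ^ 2 ^ (N - 1) * w⁻¹ * (w * x ^ 2 ^ (N - 1) * w⁻¹) =
        w * (x ^ 2 ^ (N - 1) * x ^ 2 ^ (N - 1)) * w⁻¹ by group, h.half_mul_self]; group) ?_
    have hd : w⁻¹ * x * w ∈ D := (hwN _).2 (by
      rw [show w * (w⁻¹ * x * w) * w⁻¹ = x by group]; exact h.mem_x)
    have hc : x ^ 2 ^ (N - 1) * (w⁻¹ * x * w) = w⁻¹ * x * w * x ^ 2 ^ (N - 1) := by
      by_cases hX : w⁻¹ * x * w ∈ Subgroup.zpowers x
      · exact hcomm (Subgroup.npow_mem_zpowers x _) hX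
      · have e1 := h.conj_zpowers hd hX
        generalize w⁻¹ * x * w = d at e1 ⊢
        have e2 : d * x ^ 2 ^ (N - 1) * d⁻¹ = x ^ 2 ^ (N - 1) := by
          rw [← conj_pow, e1, hdih, inv_pow, inv_eq_iff_mul_eq_one, h.half_mul_self]
        exact (mul_inv_eq_iff_eq_mul.1 e2).symm
    calc w * x ^ 2 ^ (N - 1) * w⁻¹ * x = w * (x ^ 2 ^ (N - 1) * (w⁻¹ * x * w)) * w⁻¹ := by group
      _ = w * (w⁻¹ * x * w * x ^ 2 ^ (N - 1)) * w⁻¹ := by rw [hc]
      _ = _ := by group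
  have hwS : w ∈ pmSubgroup a :=
    Or.inl (h.centralize_of_dih hdih le_rfl hwodd (fun q hq => (hwN q).1 hq) hz a haD)
  rw [← pPartOf_mul_pPrimePartOf hp g]
  exact mul_mem huS hwS

/-- A cyclic group has one subgroup of each order. -/
theorem zpowers_eq_of_orderOf {a b : G} (ha : a ∈ Subgroup.zpowers x) (hb : b ∈ Subgroup.zpowers x)
    (h : orderOf a = orderOf b) : Subgroup.zpowers a = Subgroup.zpowers b := by
  suffices key : ∀ {a b : G}, a ∈ Subgroup.zpowers x → b ∈ Subgroup.zpowers x →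
      orderOf a = orderOf b → b ∈ Subgroup.zpowers a from
    le_antisymm (Subgroup.zpowers_le.2 (key hb ha h.symm)) (Subgroup.zpowers_le.2 (key ha hb h))
  intro a b ha hb h
  rw [← mem_powers_iff_mem_zpowers] at ha hb
  obtain ⟨i, rfl⟩ := ha
  obtain ⟨j, rfl⟩ := hb
  simp only at h ⊢
  rw [orderOf_pow, orderOf_pow] at h
  have hgcd : (orderOf x).gcd i = (orderOf x).gcd j := by
    rw [← Nat.div_div_self (Nat.gcd_dvd_left (orderOf x) i) (orderOf_pos x).ne',
      ← Nat.div_div_self (Nat.gcd_dvd_left (orderOf x) j) (orderOf_pos x).ne', h]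
  obtain ⟨c, hc⟩ : ((orderOf x).gcd i : ℤ) ∣ (j : ℤ) :=
    Int.natCast_dvd_natCast.2 (hgcd ▸ Nat.gcd_dvd_right _ _)
  refine ⟨(orderOf x).gcdB i * c, ?_⟩
  show (x ^ i) ^ ((orderOf x).gcdB i * c) = x ^ j
  have e : x ^ (((orderOf x).gcd i : ℕ) : ℤ) = (x ^ i) ^ (orderOf x).gcdB i := by
    rw [Nat.gcd_eq_gcd_ab, zpow_add, zpow_mul, zpow_mul, zpow_natCast, zpow_natCast,
      pow_orderOf_eq_one, one_zpow, one_mul]
  rw [← zpow_natCast x j, hc, zpow_mul, zpow_mul, e]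

/-- Two rotations conjugate as subpairs are equal or inverse. -/
theorem rotation_fusion (hM : Cfsg.IsPModular 2 M) (hmax : Cfsg.IsMaximalBrauerPair 2 M B D e)
    (h : IsTame D x y N) (hdih : y * x * y⁻¹ = x⁻¹) {a b g : G} (ha : a ∈ Subgroup.zpowers x)
    (hb : b ∈ Subgroup.zpowers x) (hgab : g * a * g⁻¹ = b)
    {f : Set (Cfsg.IrrCharacter CG[Subgroup.zpowers a])}
    {f' : Set (Cfsg.IrrCharacter CG[Subgroup.zpowers b])}
    (hf : PairLE 2 M ⟨Subgroup.zpowers a, f⟩ ⟨D, e⟩)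
    (hf' : PairLE 2 M ⟨Subgroup.zpowers b, f'⟩ ⟨D, e⟩)
    (hg : conjPair g ⟨Subgroup.zpowers a, f⟩ = ⟨Subgroup.zpowers b, f'⟩) : b = a ∨ b = a⁻¹ := by
  classical
  have hUX : (Subgroup.zpowers a) ≤ Subgroup.zpowers x := Subgroup.zpowers_le.2 ha
  have hU : (Subgroup.zpowers a) ≤ D := hUX.trans h.zpowers_le
  have hconj : ∀ d ∈ D, d * a * d⁻¹ = a ∨ d * a * d⁻¹ = a⁻¹ := fun d hd => by
    by_cases hdX : d ∈ Subgroup.zpowers x
    · left
      obtain ⟨i, rfl⟩ := hdX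
      obtain ⟨j, rfl⟩ := ha
      show x ^ i * x ^ j * (x ^ i)⁻¹ = x ^ j
      group
    · right
      obtain ⟨i, rfl⟩ := ha
      show d * x ^ i * d⁻¹ = (x ^ i)⁻¹
      rw [← conj_zpow, h.conj_zpowers hd hdX, hdih, inv_zpow]
  have hDN : D ≤ Subgroup.normalizer ((Subgroup.zpowers a) : Set G) := fun d hd => by
    refine Subgroup.mem_normalizer_iff_map_conj_eq.2 ?_
    show (Subgroup.zpowers a).map (MulAut.conj d).toMonoidHom = (Subgroup.zpowers a)
    rw [MonoidHom.map_zpowers]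
    rcases hconj d hd with e1 | e1
    · exact congrArg Subgroup.zpowers e1
    · exact (congrArg Subgroup.zpowers e1).trans Subgroup.zpowers_inv
  obtain ⟨F, hF⟩ := exists_isBlockFusionSystemOn hM hmax
  have hfn : F.IsFullyNormalized (Subgroup.zpowers a) := ⟨hU, fun Q _ => by
    rw [show Cfsg.FusionSystem.normalizerIn D (Subgroup.zpowers a) = D from inf_eq_left.2 hDN]
    exact Subgroup.card_le_of_le inf_le_left⟩
  -- the same subgroup
  have hUV : Subgroup.zpowers b = Subgroup.zpowers a := (zpowers_eq_of_orderOf ha hb (by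
    rw [← hgab]
    exact (orderOf_injective (MulAut.conj g).toMonoidHom (MulAut.conj g).injective a).symm)).symm
  have hff : (⟨Subgroup.zpowers b, f'⟩ : Cfsg.BrauerPairIdx G) = ⟨(Subgroup.zpowers a), f⟩ :=
    pair_unique hM hmax.1.1 hf' hf hUV
  rw [hff] at hg
  let φ : (Subgroup.zpowers a) →* G := (MulAut.conj g).toMonoidHom.comp (Subgroup.zpowers a).subtype
  have hmap : (Subgroup.zpowers a).map (MulAut.conj g).toMonoidHom = (Subgroup.zpowers a) := congrArg Sigma.fst hg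
  have hφ : φ ∈ F.Hom (Subgroup.zpowers a) := (hF.2 (Subgroup.zpowers a) φ).2
    ⟨hU, g, fun u => rfl, hmap.le.trans hU, f, hf, by
      show PairLE 2 M (conjPair g ⟨(Subgroup.zpowers a), f⟩) ⟨D, e⟩
      rw [hg]; exact hf⟩
  have hrange : φ.range = (Subgroup.zpowers a) := by rw [MonoidHom.range_comp, Subgroup.range_subtype]; exact hmap
  obtain ⟨ψ, hψ, hagree⟩ := (receptive_of_fullyNormalized hM hmax hF hfn).2 (Subgroup.zpowers a) φ hφ hrange
  -- the extender is everything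
  have hDext : D ≤ Cfsg.FusionSystem.extender D (Subgroup.zpowers a) φ := fun d hd => Subgroup.subset_closure
    ⟨hd, hDN hd, d, hd, fun v hv => by
      have hga : g * a * g⁻¹ ∈ (Subgroup.zpowers a) := hmap.le ⟨a, Subgroup.mem_zpowers a, rfl⟩
      obtain ⟨m, hm⟩ := v.2
      obtain ⟨r, hr⟩ := hga
      have hm' : a ^ m = (v : G) := hm
      have hr' : a ^ r = g * a * g⁻¹ := hr
      show g * (d * v * d⁻¹) * g⁻¹ = d * (g * v * g⁻¹) * d⁻¹
      rcases hconj d hd with e1 | e1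
      · rw [← hm', ← conj_zpow, e1, ← conj_zpow, ← hr', ← zpow_mul, ← conj_zpow, e1]
      · rw [← hm', ← conj_zpow, e1, ← conj_zpow, ← conj_inv, ← hr']
        conv_rhs => rw [← conj_zpow (a := g), ← hr', ← conj_zpow (a := d), ← conj_zpow (a := d), e1,
          inv_zpow a r]
    ⟩
  obtain ⟨hle, k, hk, hkD, f₁, hf₁, hkf₁⟩ := (hF.2 _ ψ).1 hψ
  have hE : Cfsg.FusionSystem.extender D (Subgroup.zpowers a) φ = D := le_antisymm hle hDext
  have hpairE : (⟨Cfsg.FusionSystem.extender D (Subgroup.zpowers a) φ, f₁⟩ : Cfsg.BrauerPairIdx G) = ⟨D, e⟩ :=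
    pair_unique hM hmax.1.1 hf₁ Relation.ReflTransGen.refl hE
  have hk1 : conjPair k ⟨D, e⟩ = ⟨D, e⟩ := by
    have h1 : PairLE 2 M (conjPair k ⟨Cfsg.FusionSystem.extender D (Subgroup.zpowers a) φ, f₁⟩) ⟨D, e⟩ := hkf₁
    rw [hpairE] at h1
    refine pair_unique hM hmax.1.1 h1 Relation.ReflTransGen.refl ?_
    show D.map (MulAut.conj k).toMonoidHom = D
    exact Subgroup.eq_of_le_of_card_ge (BlockChar.le_of_subpairLE h1)
      (DefectThms.card_map_conj D k).ge
  have hk2 : k * a * k⁻¹ = b := by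
    rw [← hgab, ← hk ⟨a, hDext (hU (Subgroup.mem_zpowers a))⟩, hagree a (Subgroup.mem_zpowers a)]
    rfl
  rw [← hk2]
  exact stabilizer_le_pm hM hmax h hdih ha hk1

end Cfsg.Agent.BlockChar.Tame
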