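import Cfsg.Prelude.Def_BlockFusion
import Cfsg.Agent.Core.PCore
import Mathlib.GroupTheory.Sylow
import Mathlib.GroupTheory.SpecificGroups.Dihedral
import Mathlib.Data.Nat.Totient

/-!
# Odd order automorphisms of subgroups of dihedral and semidihedral 2-groups

An element of odd order normalizing a subgroup `Q` of such a group and centralizing the part of `Q`
in the cyclic maximal subgroup centralizes `Q`; in a group with such a Sylow 2-subgroup and a
self-centralizing `O_2` the nontrivial elements of odd order form at most one class.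
-/

set_option autoImplicit false

namespace Cfsg.Agent.BlockChar.Tame

universe u

variable {G : Type u} [Group G]

/-- `D` is dihedral (`dih`) or semidihedral of order `2 ^ (N + 1)`, with cyclic subgroup generated
by `x` and an involution `y` outside it. -/
structure IsTame (D : Subgroup G) (x y : G) (N : ℕ) : Prop where
  mem_x : x ∈ D
  mem_y : y ∈ D
  two_le : 2 ≤ N
  order_x : orderOf x = 2 ^ N
  notMem_y : y ∉ Subgroup.zpowers x
  sq_y : y * y = 1
  card_eq : Nat.card D = 2 ^ (N + 1)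
  rel : y * x * y⁻¹ = x⁻¹ ∨ (3 ≤ N ∧ y * x * y⁻¹ = x ^ 2 ^ (N - 1) * x⁻¹)

/-- An element of odd order normalizing a cyclic 2-group centralizes it. -/
theorem commute_of_normalize_cyclic {g c : G} (hg : Odd (orderOf g)) {k : ℕ}
    (hc : orderOf c = 2 ^ k) (h : g * c * g⁻¹ ∈ Subgroup.zpowers c) : g * c * g⁻¹ = c := by
  obtain ⟨j, hj⟩ := h
  replace hj : c ^ j = g * c * g⁻¹ := hj
  have hpow : ∀ i : ℕ, g ^ i * c * (g ^ i)⁻¹ = c ^ (j ^ i) := by
    intro i
    induction i with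
    | zero => simp
    | succ i ih =>
      rw [pow_succ' g, mul_inv_rev, show g * g ^ i * c * ((g ^ i)⁻¹ * g⁻¹) =
        g * (g ^ i * c * (g ^ i)⁻¹) * g⁻¹ by group, ih, ← conj_zpow, ← hj, ← zpow_mul,
        pow_succ']
  have hm := hpow (orderOf g)
  rw [pow_orderOf_eq_one, one_mul, inv_one, mul_one] at hm
  have h1 : ((j : ℤ) : ZMod (2 ^ k)) ^ orderOf g = 1 := by
    rw [← Int.cast_pow, ← Int.cast_one, ZMod.intCast_eq_intCast_iff, Int.modEq_comm, ← hc]
    exact zpow_eq_zpow_iff_modEq.1 (by rw [zpow_one]; exact hm)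
  obtain ⟨v, hv⟩ := IsUnit.of_pow_eq_one h1 hg.pos.ne'
  have hd : orderOf v ∣ orderOf g := orderOf_dvd_of_pow_eq_one (Units.ext (by
    rw [Units.val_pow_eq_pow_val, hv, h1]; rfl))
  have hd2 : orderOf v ∣ 2 ^ k := by
    refine (orderOf_dvd_card).trans ?_
    rw [ZMod.card_units_eq_totient]
    rcases k with - | k
    · simp
    · rw [Nat.totient_prime_pow_succ Nat.prime_two]
      exact ⟨2, by ring⟩
  have hco : Nat.Coprime (2 ^ k) (orderOf g) := (Nat.coprime_two_left.2 hg).pow_left _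
  have hv1 : v = 1 := orderOf_eq_one_iff.1 (Nat.eq_one_of_dvd_coprimes hco hd2 hd)
  rw [hv1, Units.val_one, ← Int.cast_one, ZMod.intCast_eq_intCast_iff] at hv
  rw [← hj]
  conv_rhs => rw [← zpow_one c]
  rw [zpow_eq_zpow_iff_modEq, hc]
  exact hv.symm

namespace IsTame

variable {D : Subgroup G} {x y : G} {N : ℕ} (h : IsTame D x y N)
include h

theorem zpowers_le : Subgroup.zpowers x ≤ D := Subgroup.zpowers_le.2 h.mem_x

theorem index_two : ((Subgroup.zpowers x).subgroupOf D).index = 2 := by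
  have h1 := ((Subgroup.zpowers x).subgroupOf D).card_mul_index
  rw [Nat.card_congr (Subgroup.subgroupOfEquivOfLe h.zpowers_le).toEquiv, Nat.card_zpowers,
    h.order_x, h.card_eq, pow_succ] at h1
  exact Nat.eq_of_mul_eq_mul_left (pow_pos two_pos N) h1

theorem mul_mem_iff {a b : G} (ha : a ∈ D) (hb : b ∈ D) :
    a * b ∈ Subgroup.zpowers x ↔ (a ∈ Subgroup.zpowers x ↔ b ∈ Subgroup.zpowers x) :=
  Subgroup.mul_mem_iff_of_index_two h.index_two (a := ⟨a, ha⟩) (b := ⟨b, hb⟩)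

theorem exists_eq {d : G} (hd : d ∈ D) (hdX : d ∉ Subgroup.zpowers x) : ∃ i : ℤ, d = x ^ i * y := by
  obtain ⟨i, hi⟩ := (h.mul_mem_iff hd (D.inv_mem h.mem_y)).2
    ⟨fun hh => absurd hh hdX, fun hh => absurd (inv_mem_iff.1 hh) h.notMem_y⟩
  exact ⟨i, by rw [show x ^ i = d * y⁻¹ from hi, inv_mul_cancel_right]⟩

theorem pow_half_ne_one : x ^ 2 ^ (N - 1) ≠ 1 := fun e => by
  have h1 := orderOf_dvd_of_pow_eq_one e
  rw [h.order_x, Nat.pow_dvd_pow_iff_le_right (by norm_num : 1 < 2)] at h1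
  have := h.two_le
  omega

theorem half_mul_self : x ^ 2 ^ (N - 1) * x ^ 2 ^ (N - 1) = 1 := by
  rw [← pow_add, ← two_mul, ← pow_succ', show N - 1 + 1 = N by have := h.two_le; omega, ← h.order_x,
    pow_orderOf_eq_one]

/-- The square of an element outside the cyclic subgroup is `1` or the central involution. -/
theorem sq_outside {d : G} (hd : d ∈ D) (hdX : d ∉ Subgroup.zpowers x) :
    (d * d = 1 ∨ d * d = x ^ 2 ^ (N - 1)) ∧ (y * x * y⁻¹ = x⁻¹ → d * d = 1) := by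
  obtain ⟨i, rfl⟩ := h.exists_eq hd hdX
  have e : x ^ i * y * (x ^ i * y) = x ^ i * (y * x * y⁻¹) ^ i := by
    rw [conj_zpow]
    calc x ^ i * y * (x ^ i * y) = x ^ i * (y * x ^ i * y⁻¹) * (y * y) := by group
      _ = _ := by rw [h.sq_y, mul_one]
  refine ⟨?_, fun hr => by rw [e, hr, inv_zpow', ← zpow_add, add_neg_cancel, zpow_zero]⟩
  rw [e]
  rcases h.rel with hr | ⟨-, hr⟩
  · left; rw [hr, inv_zpow', ← zpow_add, add_neg_cancel, zpow_zero]
  · rw [hr, ← zpow_natCast x, ← zpow_neg_one, ← zpow_add, ← zpow_mul, ← zpow_add,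
      show i + ((2 ^ (N - 1) : ℕ) + (-1 : ℤ)) * i = ((2 ^ (N - 1) : ℕ) : ℤ) * i by ring, zpow_mul,
      zpow_natCast]
    rcases Int.even_or_odd i with ⟨m, rfl⟩ | ⟨m, rfl⟩
    · left; rw [← two_mul, zpow_mul, zpow_two, h.half_mul_self, one_zpow]
    · right; rw [zpow_add_one, zpow_mul, zpow_two, h.half_mul_self, one_zpow, one_mul]

theorem pow_four_outside {d : G} (hd : d ∈ D) (hdX : d ∉ Subgroup.zpowers x) : d ^ 4 = 1 := by
  rw [show (4 : ℕ) = 2 * 2 by norm_num, pow_mul, pow_two d]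
  rcases (h.sq_outside hd hdX).1 with e | e <;> rw [e]
  · exact one_pow 2
  · rw [pow_two, h.half_mul_self]

theorem sq_eq_one_cases {a : G} (ha : a ∈ Subgroup.zpowers x) (ha2 : a * a = 1) :
    a = 1 ∨ a = x ^ 2 ^ (N - 1) := by
  obtain ⟨i, rfl⟩ := ha
  simp only at ha2 ⊢
  rw [← zpow_add, ← orderOf_dvd_iff_zpow_eq_one, h.order_x] at ha2
  obtain ⟨m, hm⟩ := ha2
  have hi : i = 2 ^ (N - 1) * m := by
    have : (2 : ℤ) * i = 2 * (2 ^ (N - 1) * m) := by
      rw [← mul_assoc, ← pow_succ', show N - 1 + 1 = N by have := h.two_le; omega]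
      push_cast at hm
      linarith
    linarith
  rw [hi, zpow_mul, show ((2 : ℤ) ^ (N - 1)) = ((2 ^ (N - 1) : ℕ) : ℤ) by push_cast; rfl,
    zpow_natCast]
  rcases Int.even_or_odd m with ⟨k, rfl⟩ | ⟨k, rfl⟩
  · left; rw [← two_mul, zpow_mul, zpow_two, h.half_mul_self, one_zpow]
  · right; rw [zpow_add_one, zpow_mul, zpow_two, h.half_mul_self, one_zpow, one_mul]

theorem orderOf_eq_pow_two {d : G} (hd : d ∈ D) : ∃ k, orderOf d = 2 ^ k := by
  have h1 : orderOf d ∣ 2 ^ (N + 1) := by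
    rw [← h.card_eq, ← Subgroup.orderOf_mk d hd]
    exact orderOf_dvd_natCard _
  obtain ⟨k, -, hk⟩ := (Nat.dvd_prime_pow Nat.prime_two).1 h1
  exact ⟨k, hk⟩

theorem isPGroup : IsPGroup 2 D := IsPGroup.of_card h.card_eq

/-- Centralizing the cyclic part is enough. -/
theorem centralize_of_cyclic_part {Q : Subgroup G} (hQD : Q ≤ D) {g : G} (hg : Odd (orderOf g))
    (hgQ : ∀ q ∈ Q, g * q * g⁻¹ ∈ Q)
    (hfix : ∀ c ∈ Q, c ∈ Subgroup.zpowers x → g * c * g⁻¹ = c) :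
    ∀ q ∈ Q, g * q * g⁻¹ = q := by
  intro q hq
  by_cases hqX : q ∈ Subgroup.zpowers x
  · exact hfix q hq hqX
  have hgq := hgQ q hq
  have hout : g * q * g⁻¹ ∉ Subgroup.zpowers x := fun hin => hqX (by
    have h1 : g * q * g⁻¹ = q := mul_left_cancel (mul_right_cancel (hfix _ hgq hin))
    rwa [h1] at hin)
  have hcX : q⁻¹ * (g * q * g⁻¹) ∈ Subgroup.zpowers x :=
    (h.mul_mem_iff (D.inv_mem (hQD hq)) (hQD hgq)).2
      ⟨fun hh => absurd (inv_mem_iff.1 hh) hqX, fun hh => absurd hh hout⟩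
  set c := q⁻¹ * (g * q * g⁻¹) with hc
  have hcQ : c ∈ Q := Q.mul_mem (Q.inv_mem hq) hgq
  have hgc : g * c * g⁻¹ = c := hfix c hcQ hcX
  have hpow : ∀ i : ℕ, g ^ i * q * (g ^ i)⁻¹ = q * c ^ i := by
    intro i
    induction i with
    | zero => simp
    | succ i ih =>
      calc g ^ (i + 1) * q * (g ^ (i + 1))⁻¹ = g * (g ^ i * q * (g ^ i)⁻¹) * g⁻¹ := by
            rw [pow_succ' g, mul_inv_rev]; group
        _ = (g * q * g⁻¹) * (g * c * g⁻¹) ^ i := by rw [ih, conj_pow]; group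
        _ = q * c ^ (i + 1) := by rw [hgc, pow_succ' c, ← mul_assoc q, hc, mul_inv_cancel_left]
  have h1 := hpow (orderOf g)
  rw [pow_orderOf_eq_one, one_mul, inv_one, mul_one, left_eq_mul] at h1
  obtain ⟨k, hk⟩ := h.orderOf_eq_pow_two (hQD hcQ)
  have hd := orderOf_dvd_of_pow_eq_one h1
  rw [hk] at hd
  have hco : Nat.Coprime (2 ^ k) (orderOf g) := (Nat.coprime_two_left.2 hg).pow_left _
  have hc1 : c = 1 := orderOf_eq_one_iff.1 (hk.trans (Nat.eq_one_of_dvd_coprimes hco dvd_rfl hd))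
  rw [hc, inv_mul_eq_one] at hc1
  exact hc1.symm

omit h in
theorem exists_generator (Q : Subgroup G) :
    ∃ c, Q ⊓ Subgroup.zpowers x = Subgroup.zpowers c := by
  have : IsCyclic ↥(Q ⊓ Subgroup.zpowers x) :=
    isCyclic_of_injective (Subgroup.inclusion (inf_le_right (a := Q)))
      (Subgroup.inclusion_injective _)
  obtain ⟨c, hc⟩ := IsCyclic.exists_generator (α := ↥(Q ⊓ Subgroup.zpowers x))
  refine ⟨c, le_antisymm (fun a ha => ?_) (Subgroup.zpowers_le.2 c.2)⟩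
  obtain ⟨i, hi⟩ := hc ⟨a, ha⟩
  exact ⟨i, by simpa using congrArg Subtype.val hi⟩

/-- An element of odd order whose image of a generator of the cyclic part stays in the cyclic
subgroup centralizes `Q`. -/
theorem centralize_of_stable {Q : Subgroup G} (hQD : Q ≤ D) {g c : G} (hg : Odd (orderOf g))
    (hgQ : ∀ q ∈ Q, g * q * g⁻¹ ∈ Q) (hc : Q ⊓ Subgroup.zpowers x = Subgroup.zpowers c)
    (hgc : g * c * g⁻¹ ∈ Subgroup.zpowers x) : ∀ q ∈ Q, g * q * g⁻¹ = q := by
  have hcQ : c ∈ Q ⊓ Subgroup.zpowers x := hc ▸ Subgroup.mem_zpowers c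
  have hgc' : g * c * g⁻¹ ∈ Subgroup.zpowers c := hc ▸ ⟨hgQ c hcQ.1, hgc⟩
  obtain ⟨k, hk⟩ := h.orderOf_eq_pow_two (hQD hcQ.1)
  have hfixc := commute_of_normalize_cyclic hg hk hgc'
  refine h.centralize_of_cyclic_part hQD hg hgQ fun a ha haX => ?_
  obtain ⟨i, rfl⟩ : a ∈ Subgroup.zpowers c := hc ▸ ⟨ha, haX⟩
  show g * c ^ i * g⁻¹ = c ^ i
  rw [← conj_zpow, hfixc]

/-- Outside a small cyclic part nothing moves. -/
theorem centralize_of_big {Q : Subgroup G} (hQD : Q ≤ D) {g c : G} (hg : Odd (orderOf g))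
    (hgQ : ∀ q ∈ Q, g * q * g⁻¹ ∈ Q) (hc : Q ⊓ Subgroup.zpowers x = Subgroup.zpowers c)
    (hbig : ¬ c ^ 4 = 1 ∨ (y * x * y⁻¹ = x⁻¹ ∧ c * c ≠ 1)) :
    ∀ q ∈ Q, g * q * g⁻¹ = q := by
  have hcQ : c ∈ Q ⊓ Subgroup.zpowers x := hc ▸ Subgroup.mem_zpowers c
  refine h.centralize_of_stable hQD hg hgQ hc (by_contra fun hout => ?_)
  have hmem := hQD (hgQ c hcQ.1)
  rcases hbig with hb | ⟨hr, hb⟩
  · have e := h.pow_four_outside hmem hout
    rw [conj_pow] at e
    exact hb (by simpa using e)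
  · have e := (h.sq_outside hmem hout).2 hr
    rw [← pow_two, conj_pow] at e
    exact hb (by rw [← pow_two]; simpa using e)

/-- In the dihedral case an element of odd order fixing the central involution centralizes every
subgroup it normalizes. -/
theorem centralize_of_dih (hdih : y * x * y⁻¹ = x⁻¹) {Q : Subgroup G} (hQD : Q ≤ D) {g : G}
    (hg : Odd (orderOf g)) (hgQ : ∀ q ∈ Q, g * q * g⁻¹ ∈ Q)
    (hz : g * x ^ 2 ^ (N - 1) * g⁻¹ = x ^ 2 ^ (N - 1)) : ∀ q ∈ Q, g * q * g⁻¹ = q := by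
  obtain ⟨c, hc⟩ := exists_generator (x := x) Q
  have hcQ : c ∈ Q ⊓ Subgroup.zpowers x := hc ▸ Subgroup.mem_zpowers c
  by_cases hsq : c * c = 1
  · refine h.centralize_of_cyclic_part hQD hg hgQ fun a ha haX => ?_
    obtain ⟨i, rfl⟩ : a ∈ Subgroup.zpowers c := hc ▸ ⟨ha, haX⟩
    show g * c ^ i * g⁻¹ = c ^ i
    rw [← conj_zpow]
    rcases h.sq_eq_one_cases hcQ.2 hsq with e | e <;> rw [e]
    · simp
    · rw [hz]
  · exact h.centralize_of_big hQD hg hgQ hc (Or.inr ⟨hdih, hsq⟩)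

end IsTame

/-- Dihedral groups are tame. -/
theorem exists_tame_of_dihedral {D : Subgroup G} {n : ℕ} (hn : 3 ≤ n)
    (e : D ≃* DihedralGroup (2 ^ (n - 1))) :
    ∃ x y : G, IsTame D x y (n - 1) ∧ y * x * y⁻¹ = x⁻¹ := by
  set r : D := e.symm (DihedralGroup.r 1) with hr
  set s : D := e.symm (DihedralGroup.sr 0) with hs
  have hrel : s * r * s⁻¹ = r⁻¹ := e.injective (by simp [hr, hs])
  refine ⟨(r : G), (s : G), ⟨r.2, s.2, by omega, ?_, ?_, ?_, ?_, ?_⟩, ?_⟩
  · rw [Subgroup.orderOf_coe, hr, MulEquiv.orderOf_eq, DihedralGroup.orderOf_r_one]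
  · rintro ⟨i, hi⟩
    have h1 : r ^ i = s := Subtype.ext (by simpa using hi)
    have h2 := congrArg e h1
    simp [hr, hs] at h2
  · have h1 : s * s = 1 := e.injective (by simp [hs])
    exact congrArg Subtype.val h1
  · rw [Nat.card_congr e.toEquiv, DihedralGroup.nat_card, show n - 1 + 1 = n by omega, ← pow_succ',
      show n - 1 + 1 = n by omega]
  · left; exact congrArg Subtype.val hrel
  · exact congrArg Subtype.val hrel

/-- Semidihedral groups are tame. -/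
theorem exists_tame_of_quasiDihedral {D : Subgroup G} (hD : Cfsg.IsQuasiDihedral D) :
    ∃ (x y : G) (N : ℕ), IsTame D x y N := by
  obtain ⟨N, hN, hcard, r, s, hr, hs, hrel⟩ := hD
  refine ⟨(r : G), (s : G), N, r.2, s.2, by omega, by rw [Subgroup.orderOf_coe, hr], ?_, ?_,
    hcard, Or.inr ⟨hN, ?_⟩⟩
  · rintro ⟨i, hi⟩
    have h1 : r ^ i = s := Subtype.ext (by simpa using hi)
    have h2 : r ^ (2 ^ (N - 1) - 1) = r ^ (1 : ℕ) := by
      rw [← hrel, ← h1, pow_one]; group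
    rw [pow_inj_mod, hr] at h2
    have hlt : 2 ^ (N - 1) < 2 ^ N := Nat.pow_lt_pow_right (by norm_num) (by omega)
    have hbig : 4 ≤ 2 ^ (N - 1) := by
      calc 4 = 2 ^ 2 := by norm_num
        _ ≤ _ := Nat.pow_le_pow_right (by norm_num) (by omega)
    rw [Nat.mod_eq_of_lt (by omega), Nat.mod_eq_of_lt (by omega)] at h2
    omega
  · have h1 : s * s = 1 := by rw [← pow_two, ← hs, pow_orderOf_eq_one]
    exact congrArg Subtype.val h1
  · have h1 : s * r * s⁻¹ = r ^ 2 ^ (N - 1) * r⁻¹ := by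
      rw [hrel, eq_mul_inv_iff_mul_eq, ← pow_succ, Nat.sub_add_cancel Nat.one_le_two_pow]
    exact congrArg Subtype.val h1

end Cfsg.Agent.BlockChar.Tame
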