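import Cfsg.Agent.BlockChar.Tame.Group
import Cfsg.Agent.BlockChar.RankOneFew
import Cfsg.Agent.Blocks.Star.NilpotentMain
import Cfsg.Agent.BlockThms.NormalCor

/-!
# Blocks with a tame defect group and the central involution
-/

set_option autoImplicit false

namespace Cfsg.Agent.BlockChar.Tame

open Cfsg.Agent Cfsg.Agent.Blocks

universe u

variable {G : Type u} [Group G]

namespace IsTame

variable {D : Subgroup G} {x y : G} {N : ℕ} (h : IsTame D x y N)
include h

theorem half_mem : x ^ 2 ^ (N - 1) ∈ D := D.pow_mem h.mem_x _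

theorem sq_ne_half (hN : 3 ≤ N) : x * x ≠ x ^ 2 ^ (N - 1) := fun e => by
  have h4 : x ^ (4 : ℕ) = 1 := by
    rw [show (4 : ℕ) = 2 + 2 by norm_num, pow_add, pow_two, e, h.half_mul_self]
  have h1 := Nat.le_of_dvd (by norm_num) (orderOf_dvd_of_pow_eq_one h4)
  rw [h.order_x] at h1
  have : 2 ^ 3 ≤ 2 ^ N := Nat.pow_le_pow_right (by norm_num) hN
  omega

theorem conj_ne_self : y * x * y⁻¹ ≠ x := fun e => by
  rcases h.rel with hr | ⟨hN, hr⟩ <;> rw [hr] at e
  · have h1 : x * x = 1 := by rw [← inv_eq_iff_mul_eq_one]; exact e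
    have h2 := Nat.le_of_dvd two_pos (orderOf_dvd_of_pow_eq_one (by rwa [pow_two] : x ^ 2 = 1))
    rw [h.order_x] at h2
    have : 2 ^ 2 ≤ 2 ^ N := Nat.pow_le_pow_right (by norm_num) h.two_le
    omega
  · exact h.sq_ne_half hN (by rw [mul_inv_eq_iff_eq_mul] at e; exact e.symm)

theorem conj_zpowers {d : G} (hd : d ∈ D) (hdX : d ∉ Subgroup.zpowers x) :
    d * x * d⁻¹ = y * x * y⁻¹ := by
  obtain ⟨i, rfl⟩ := h.exists_eq hd hdX
  rw [show x ^ i * y * x * (x ^ i * y)⁻¹ = x ^ i * (y * x * y⁻¹) * (x ^ i)⁻¹ by group]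
  obtain ⟨j, hj⟩ : ∃ j : ℤ, y * x * y⁻¹ = x ^ j := by
    rcases h.rel with hr | ⟨-, hr⟩ <;> rw [hr]
    · exact ⟨-1, by simp⟩
    · exact ⟨(2 ^ (N - 1) : ℕ) + -1, by rw [zpow_add, zpow_natCast, zpow_neg_one]⟩
  rw [hj, ← zpow_add, ← zpow_neg, ← zpow_add]
  congr 1
  ring

/-- The central involution. -/
theorem eq_half {z : G} (hz : z ∈ D) (hz1 : z ≠ 1) (hz2 : z * z = 1) (hc : z * x = x * z) :
    z = x ^ 2 ^ (N - 1) := by
  refine (h.sq_eq_one_cases (by_contra fun hX => ?_) hz2).resolve_left hz1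
  refine h.conj_ne_self ?_
  rw [← h.conj_zpowers hz hX, hc, mul_inv_cancel_right]

/-- Transport along an injective homomorphism. -/
theorem map {H : Type*} [Group H] (f : G →* H) (hf : Function.Injective f) :
    IsTame (D.map f) (f x) (f y) N where
  mem_x := Subgroup.mem_map_of_mem f h.mem_x
  mem_y := Subgroup.mem_map_of_mem f h.mem_y
  two_le := h.two_le
  order_x := by rw [orderOf_injective f hf, h.order_x]
  notMem_y := fun ⟨i, hi⟩ => h.notMem_y ⟨i, hf (by rw [map_zpow]; exact hi)⟩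
  sq_y := by rw [← map_mul, h.sq_y, map_one]
  card_eq := by rw [Subgroup.card_map_of_injective hf, h.card_eq]
  rel := by
    rcases h.rel with hr | ⟨hN, hr⟩
    · left; rw [← map_inv, ← map_inv, ← map_mul, ← map_mul, hr]
    · right; exact ⟨hN, by rw [← map_inv, ← map_inv, ← map_pow, ← map_mul, ← map_mul, ← map_mul, hr]⟩

/-- Restriction to a subgroup containing it. -/
theorem subgroupOf {L : Subgroup G} (hL : D ≤ L) :
    IsTame (D.subgroupOf L) (⟨x, hL h.mem_x⟩ : L) (⟨y, hL h.mem_y⟩ : L) N where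
  mem_x := Subgroup.mem_subgroupOf.2 h.mem_x
  mem_y := Subgroup.mem_subgroupOf.2 h.mem_y
  two_le := h.two_le
  order_x := by rw [Subgroup.orderOf_mk, h.order_x]
  notMem_y := fun ⟨i, hi⟩ => h.notMem_y ⟨i, by simpa using congrArg Subtype.val hi⟩
  sq_y := Subtype.ext h.sq_y
  card_eq := by rw [Nat.card_congr (Subgroup.subgroupOfEquivOfLe hL).toEquiv, h.card_eq]
  rel := by
    rcases h.rel with hr | ⟨hN, hr⟩
    · left; exact Subtype.ext hr
    · right; exact ⟨hN, Subtype.ext hr⟩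

end IsTame

variable [Finite G] {M : Ideal Cfsg.AlgInt} {B : Set (Cfsg.IrrCharacter G)} {D : Subgroup G}
  {x y : G} {N : ℕ}

/-- A central involution is the involution of the cyclic part of every defect group. -/
theorem central_eq_half (hM : Cfsg.IsPModular 2 M) (hB : Cfsg.IsPBlock M B)
    (hD : Cfsg.IsDefectGroup 2 M B D) (h : IsTame D x y N) {z : G}
    (hz : z ∈ Subgroup.center G) (hz1 : z ≠ 1) (hz2 : z * z = 1) : z = x ^ 2 ^ (N - 1) := by
  classical
  have := Fact.mk Nat.prime_two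
  have := Fintype.ofFinite G
  have hzc := Subgroup.mem_center_iff.1 hz
  have : (Subgroup.zpowers z).Normal := ⟨fun n hn g => by
    have hn' := Subgroup.mem_center_iff.1 (Subgroup.zpowers_le.2 hz hn)
    rwa [hn' g, mul_inv_cancel_right]⟩
  have hN : IsPGroup 2 (Subgroup.zpowers z) := IsPGroup.of_card (n := 1) (by
    rw [Nat.card_zpowers, pow_one]
    exact orderOf_eq_prime (by rw [pow_two]; exact hz2) hz1)
  exact h.eq_half (DefectThms.le_defectGroup_of_normal hM hB hD _ hN (Subgroup.mem_zpowers z)) hz1 hz2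
    (hzc x).symm

/-- With a central involution a block with dihedral defect group has one Brauer character. -/
theorem rank_one_of_dihedral (hM : Cfsg.IsPModular 2 M) (hB : Cfsg.IsPBlock M B)
    (hD : Cfsg.IsDefectGroup 2 M B D) (h : IsTame D x y N) (hdih : y * x * y⁻¹ = x⁻¹)
    (hz : x ^ 2 ^ (N - 1) ∈ Subgroup.center G) : Cfsg.blockRank 2 B = 1 := by
  classical
  have := Fintype.ofFinite G
  refine (Star.nilpotent_rank_one hM ⟨hB, fun Q e hpair g hgN _ hreg => ?_⟩).1
  obtain ⟨k, hk⟩ := exists_conj_le_of_pair hM hpair hD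
  have hodd : Odd (orderOf g) := Nat.not_even_iff_odd.1 fun he => hreg (even_iff_two_dvd.1 he)
  have hconj : ∀ q ∈ Q, k * q * k⁻¹ ∈ Q.map (MulAut.conj k).toMonoidHom := fun q hq => ⟨q, hq, rfl⟩
  have hfix := h.centralize_of_dih hdih hk (g := k * g * k⁻¹)
    (by
      have := orderOf_injective (MulAut.conj k).toMonoidHom (MulAut.conj k).injective g
      simpa using (this ▸ hodd))
    (by
      rintro _ ⟨q, hq, rfl⟩
      refine ⟨g * q * g⁻¹, (Subgroup.mem_normalizer_iff.1 hgN q).1 hq, ?_⟩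
      simp only [MulEquiv.coe_toMonoidHom, MulAut.conj_apply]
      group)
    (by rw [Subgroup.mem_center_iff.1 hz, mul_inv_cancel_right])
  refine Subgroup.mem_centralizer_iff.2 fun q hq => ?_
  have e := hfix _ (hconj q hq)
  have e2 : k * (g * q * g⁻¹) * k⁻¹ = k * q * k⁻¹ := by rw [← e]; group
  exact (mul_inv_eq_iff_eq_mul.1 (mul_left_cancel (mul_right_cancel e2))).symm

end Cfsg.Agent.BlockChar.Tame
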