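import Cfsg.Agent.BlockChar.Tame.Count
import Cfsg.Agent.BlockChar.CentralQuotient
import Cfsg.Agent.BlockThms.QuotientDefect

/-!
# A block with tame defect group in a group with a central involution
-/

set_option autoImplicit false

namespace Cfsg.Agent.BlockChar.Tame

open Cfsg.Agent Cfsg.Agent.Blocks

universe u

variable {G : Type u} [Group G]

/-- Conjugates of tame subgroups are tame. -/
theorem IsTame.conj {D : Subgroup G} {x y : G} {N : ℕ} (h : IsTame D x y N) (k : G) :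
    IsTame (D.map (MulAut.conj k).toMonoidHom) (k * x * k⁻¹) (k * y * k⁻¹) N :=
  h.map (MulAut.conj k).toMonoidHom (MulAut.conj k).injective

variable [Finite G] {M : Ideal Cfsg.AlgInt} {B : Set (Cfsg.IrrCharacter G)} {D : Subgroup G}
  {x y : G} {N : ℕ}

/-- With a central involution a block with tame defect group has at most two Brauer characters. -/
theorem rank_le_two_of_central (hM : Cfsg.IsPModular 2 M) (hB : Cfsg.IsPBlock M B)
    (hD : Cfsg.IsDefectGroup 2 M B D) (h : IsTame D x y N) {z : G}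
    (hz : z ∈ Subgroup.center G) (hz1 : z ≠ 1) (hz2 : z * z = 1) :
    Cfsg.blockRank 2 B ≤ 2 := by
  classical
  have := Fact.mk Nat.prime_two
  have := Fintype.ofFinite G
  have hzhalf := central_eq_half hM hB hD h hz hz1 hz2
  rcases h.rel with hdih | ⟨hN, hsd⟩
  · rw [rank_one_of_dihedral hM hB hD h hdih (hzhalf ▸ hz)]
    norm_num
  set Z := Subgroup.zpowers z with hZdef
  have hZc : Z ≤ Subgroup.center G := Subgroup.zpowers_le.2 hz
  have : Z.Normal := ⟨fun n hn g => by
    have hn' := Subgroup.mem_center_iff.1 (hZc hn)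
    rwa [hn' g, mul_inv_cancel_right]⟩
  have hzord : orderOf z = 2 := orderOf_eq_prime (by rw [pow_two]; exact hz2) hz1
  have hZp : IsPGroup 2 Z := IsPGroup.of_card (n := 1) (by rw [Nat.card_zpowers, pow_one, hzord])
  have := Fintype.ofFinite (G ⧸ Z)
  obtain ⟨b', hb', hiff, -, -⟩ := exists_quotient_block Z hM hZp hZc hB
  obtain ⟨Bb, hBb, hsub, P, hP, hPb⟩ := BlockThms.QuotientDefect.exists_dominated Z hM hZp hB
  obtain rfl : Bb = b' := by
    obtain ⟨η, hη⟩ := IsPBlock.nonempty hM hBb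
    rw [IsPBlock.eq_blockOf hM hBb hη,
      ← IsPBlock.eq_blockOf hM hb' ((hiff η).2 (hsub η hη (inflIrr Z η) rfl))]
  refine (blockRank_le_quotient Z hM hZp hZc hB hiff).trans ?_
  obtain ⟨k, hk⟩ := DefectThms.exists_defectGroup_conj hM hB hD hP
  have hT : IsTame P (k * x * k⁻¹) (k * y * k⁻¹) N := hk ▸ h.conj k
  have hhalf := central_eq_half hM hB hP hT hz hz1 hz2
  have hsd' : k * y * k⁻¹ * (k * x * k⁻¹) * (k * y * k⁻¹)⁻¹ =
      (k * x * k⁻¹) ^ 2 ^ (N - 1) * (k * x * k⁻¹)⁻¹ := by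
    rw [show k * y * k⁻¹ * (k * x * k⁻¹) * (k * y * k⁻¹)⁻¹ = k * (y * x * y⁻¹) * k⁻¹ by group, hsd,
      conj_pow]
    group
  generalize k * x * k⁻¹ = a at hT hsd' hhalf
  generalize k * y * k⁻¹ = c at hT hsd'
  set f := QuotientGroup.mk' Z with hf
  have hker : ∀ g : G, f g = 1 ↔ g = 1 ∨ g = z := fun g => by
    rw [hf, QuotientGroup.mk'_apply, QuotientGroup.eq_one_iff]
    constructor
    · rintro ⟨i, rfl⟩
      rcases Int.even_or_odd i with ⟨m, rfl⟩ | ⟨m, rfl⟩
      · left; show z ^ (m + m) = 1; rw [← two_mul, zpow_mul, zpow_two, hz2, one_zpow]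
      · right; show z ^ (2 * m + 1) = z
        rw [zpow_add_one, zpow_mul, zpow_two, hz2, one_zpow, one_mul]
    · rintro (rfl | rfl)
      · exact one_mem _
      · exact Subgroup.mem_zpowers _
  have hNs : N - 1 - 1 + 1 = N - 1 := by omega
  have hzX : z ∈ Subgroup.zpowers a := hhalf ▸ Subgroup.npow_mem_zpowers a _
  have hT' : IsTame (P.map f) (f a) (f c) (N - 1) := by
    refine ⟨Subgroup.mem_map_of_mem f hT.mem_x, Subgroup.mem_map_of_mem f hT.mem_y, by omega, ?_,
      ?_, by rw [← map_mul, hT.sq_y, map_one], ?_, Or.inl ?_⟩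
    · rw [← hNs]
      refine orderOf_eq_prime_pow (fun e1 => ?_) ?_
      · rw [← map_pow, hker] at e1
        have h2 : (a ^ 2 ^ (N - 1 - 1)) * (a ^ 2 ^ (N - 1 - 1)) = a ^ 2 ^ (N - 1) := by
          rw [← pow_add, ← two_mul, ← pow_succ', hNs]
        rcases e1 with e1 | e1
        · rw [e1, one_mul] at h2; exact hT.pow_half_ne_one h2.symm
        · rw [e1, hz2] at h2; exact hT.pow_half_ne_one h2.symm
      · rw [hNs, ← map_pow, hker]
        exact Or.inr hhalf.symm
    · rintro ⟨i, hi⟩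
      have h1 : f ((a ^ i)⁻¹ * c) = 1 := by rw [map_mul, map_inv, map_zpow, inv_mul_eq_one]; exact hi
      rw [hker] at h1
      refine hT.notMem_y ?_
      rcases h1 with e1 | e1
      · rw [inv_mul_eq_one] at e1; exact ⟨i, e1⟩
      · rw [inv_mul_eq_iff_eq_mul] at e1
        exact e1 ▸ Subgroup.mul_mem _ ⟨i, rfl⟩ hzX
    · have h1 := (f.domRestrict P).ker.card_mul_index
      rw [Subgroup.index_ker, MonoidHom.domRestrict_range, hT.card_eq] at h1
      have h2 : Nat.card (f.domRestrict P).ker = 2 := by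
        rw [MonoidHom.ker_domRestrict, hf, QuotientGroup.ker_mk']
        rw [Nat.card_congr (Subgroup.subgroupOfEquivOfLe (Subgroup.zpowers_le.2
          (hT.zpowers_le hzX) : Z ≤ P)).toEquiv, Nat.card_zpowers, hzord]
      rw [h2, pow_succ'] at h1
      rw [Nat.eq_of_mul_eq_mul_left two_pos h1, show N - 1 + 1 = N by omega]
    · rw [← map_inv, ← map_inv, ← map_mul, ← map_mul, hsd', map_mul,
        (hker _).2 (Or.inr hhalf.symm), one_mul]
  refine rank_le_two hM hBb hPb hT' ?_ fun g hg => ?_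
  · rw [← map_inv, ← map_inv, ← map_mul, ← map_mul, hsd', map_mul,
      (hker _).2 (Or.inr hhalf.symm), one_mul]
  obtain ⟨g, rfl⟩ := QuotientGroup.mk_surjective g
  rw [show ((g : G) : G ⧸ Z) = f g from rfl, ← map_inv, ← map_mul, ← map_mul, ← map_pow] at hg
  have h1 : f ((a ^ 2 ^ (N - 1 - 1))⁻¹ * (g * c * g⁻¹)) = 1 := by
    rw [map_mul, map_inv, inv_mul_eq_one]; exact hg.symm
  rw [hker] at h1
  set d := a ^ 2 ^ (N - 1 - 1) with hd
  have hdd : d * d = z := by rw [hd, ← pow_add, ← two_mul, ← pow_succ', hNs, hhalf]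
  have hsq : g * c * g⁻¹ * (g * c * g⁻¹) = 1 := by
    rw [show g * c * g⁻¹ * (g * c * g⁻¹) = g * (c * c) * g⁻¹ by group, hT.sq_y]; group
  rcases h1 with e1 | e1 <;> rw [inv_mul_eq_iff_eq_mul] at e1
  · rw [e1, mul_one, hdd] at hsq; exact hz1 hsq
  · rw [e1, show d * z * (d * z) = d * d * (z * z) by
      rw [mul_assoc, ← mul_assoc z, ← Subgroup.mem_center_iff.1 hz d]; group, hz2, mul_one, hdd] at hsq
    exact hz1 hsq

end Cfsg.Agent.BlockChar.Tame
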