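import Cfsg.Agent.BlockChar.Tame.Core
import Cfsg.Agent.BlockChar.Tame.InvariantRank
import Cfsg.Agent.BlockChar.Tame.Quotient
import Cfsg.Agent.Blocks.FongReynolds
import Cfsg.Agent.Blocks.PrimeCoreBlock

/-!
# Blocks of solvable groups with tame defect groups
-/

set_option autoImplicit false

namespace Cfsg.Agent.BlockChar.Tame

open Cfsg.Agent Cfsg.Agent.Blocks

universe u

/-- Induction is linear on the regular parts. -/
theorem blockRank_le_of_induced {G : Type u} [Group G] [Fintype G] {p : ℕ} {T : Subgroup G}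
    {B : Set (Cfsg.IrrCharacter G)} {B' : Set (Cfsg.IrrCharacter T)}
    (h : ∀ χ ∈ B, ∃ ψ ∈ B', (χ : G → ℂ) = Cfsg.indFun T (ψ : T → ℂ)) :
    Cfsg.blockRank p B ≤ Cfsg.blockRank p B' := by
  classical
  let L : (T → ℂ) →ₗ[ℂ] (G → ℂ) :=
    { toFun := Cfsg.indFun T
      map_add' := fun f f' => funext fun g => by
        simp only [Cfsg.indFun, Pi.add_apply, ← mul_add, ← Finset.sum_add_distrib]
        congr 1
        refine Finset.sum_congr rfl fun x _ => ?_
        by_cases hm : x⁻¹ * g * x ∈ T <;>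
          simp [Char.extendByZero_of_mem, Char.extendByZero_of_not_mem, hm]
      map_smul' := fun c f => funext fun g => by
        simp only [Cfsg.indFun, Pi.smul_apply, smul_eq_mul, RingHom.id_apply, Finset.mul_sum]
        refine Finset.sum_congr rfl fun x _ => ?_
        by_cases hm : x⁻¹ * g * x ∈ T <;>
          simp [Char.extendByZero_of_mem, Char.extendByZero_of_not_mem, hm] <;> ring }
  set V := Submodule.span ℂ
    ((fun ψ : Cfsg.IrrCharacter T => Cfsg.pRegularPart p (ψ : T → ℂ)) '' B') with hV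
  rw [Cfsg.blockRank, Cfsg.blockRank, ← hV]
  refine (Submodule.finrank_mono (t := V.map L) ?_).trans (Submodule.finrank_map_le L V)
  rw [Submodule.span_le]
  rintro _ ⟨χ, hχ, rfl⟩
  obtain ⟨ψ, hψ, he⟩ := h χ hχ
  refine ⟨_, Submodule.subset_span ⟨ψ, hψ, rfl⟩, funext fun g => ?_⟩
  show Cfsg.indFun T _ g = Cfsg.pRegularPart p (χ : G → ℂ) g
  rw [pRegularPart_apply, he]
  simp only [Cfsg.indFun]
  have ho : ∀ x : G, orderOf (x⁻¹ * g * x) = orderOf g := fun x => by
    simpa using orderOf_injective (MulAut.conj x⁻¹).toMonoidHom (MulAut.conj x⁻¹).injective g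
  split_ifs with hg
  · refine mul_eq_zero_of_right _ (Finset.sum_eq_zero fun x _ => ?_)
    by_cases hm : x⁻¹ * g * x ∈ T
    · rw [Char.extendByZero_of_mem T _ hm, pRegularPart_apply, if_pos]
      rwa [Subgroup.orderOf_mk, ho]
    · rw [Char.extendByZero_of_not_mem T _ hm]
  · congr 1
    refine Finset.sum_congr rfl fun x _ => ?_
    by_cases hm : x⁻¹ * g * x ∈ T
    · rw [Char.extendByZero_of_mem T _ hm, Char.extendByZero_of_mem T _ hm, pRegularPart_apply,
        if_neg]
      rwa [Subgroup.orderOf_mk, ho]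
    · rw [Char.extendByZero_of_not_mem T _ hm, Char.extendByZero_of_not_mem T _ hm]

/-- At most two Brauer characters in a solvable group. -/
theorem rank_le_two_of_solvable {M : Ideal Cfsg.AlgInt} (hM : Cfsg.IsPModular 2 M) :
    ∀ (n : ℕ) (G : Type u) [Group G] [Finite G] [Group.IsSolvable G], Nat.card G ≤ n →
      ∀ (B : Set (Cfsg.IrrCharacter G)), Cfsg.IsPBlock M B → ∀ (D : Subgroup G),
        Cfsg.IsDefectGroup 2 M B D → ∀ (x y : G) (N : ℕ), IsTame D x y N →
          Cfsg.blockRank 2 B ≤ 2 := by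
  classical
  intro n
  induction n with
  | zero => intro G _ _ _ hn; exact absurd hn (by have := Nat.card_pos (α := G); omega)
  | succ n ih =>
  intro G _ _ _ hn B hB D hD x y N h
  have := Fact.mk Nat.prime_two
  have := Fintype.ofFinite G
  set K := Cfsg.pPrimeCore 2 G with hK
  have hKn : K.Normal := inferInstance
  have := Fintype.ofFinite K
  have hK2 : ¬ 2 ∣ Nat.card K := Core.not_dvd_card_pPrimeCore
  obtain ⟨χ, hχ⟩ := IsPBlock.nonempty hM hB
  obtain ⟨θ, hθ⟩ := Char.exists_constituent_res (N := K) χ.2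
  by_cases hinv : ∀ g : G, Char.conjFun g (θ : K → ℂ) = θ
  · -- invariant
    obtain ⟨B₀, hB₀, hiff, -, hsyl, -⟩ :=
      exists_invariant_block_of_pConstrained hM Layer.isPConstrained_of_isSolvable hK θ hinv
    obtain rfl : B = B₀ := by
      rw [IsPBlock.eq_blockOf hM hB hχ, IsPBlock.eq_blockOf hM hB₀ ((hiff χ).2 hθ)]
    refine (blockRank_le_regular θ hinv B fun φ hφ => (hiff φ).1 hφ).trans ?_
    obtain ⟨S, rfl⟩ := hsyl D hD
    set f := QuotientGroup.mk' K with hf
    have hfs : Function.Surjective f := QuotientGroup.mk'_surjective K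
    have hinj : Function.Injective (f.comp (S : Subgroup G).subtype) := by
      refine (injective_iff_map_eq_one _).2 fun d hd => ?_
      rw [MonoidHom.comp_apply, hf, QuotientGroup.mk'_apply, QuotientGroup.eq_one_iff] at hd
      obtain ⟨k, hk⟩ := h.orderOf_eq_pow_two d.2
      have h1 : orderOf (d : G) ∣ Nat.card K := Subgroup.orderOf_dvd_natCard K hd
      rw [hk] at h1
      rcases k with - | k
      · exact Subtype.ext (orderOf_eq_one_iff.1 hk)
      · exact absurd ((dvd_pow_self 2 k.succ_ne_zero).trans h1) hK2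
    have hT : IsTame ((S.mapSurjective hfs : Sylow 2 (G ⧸ K)) : Subgroup (G ⧸ K)) (f x) (f y) N := by
      have h1 := (h.subgroupOf (le_refl (S : Subgroup G))).map _ hinj
      rw [← Subgroup.map_map, Subgroup.map_subgroupOf_eq_of_le le_rfl] at h1
      rw [Sylow.coe_mapSurjective]
      exact h1
    have : Group.IsSolvable (G ⧸ K) := inferInstance
    set ι := {C : ConjClasses (G ⧸ K) // ∃ a, ConjClasses.mk a = C ∧ ¬ 2 ∣ orderOf a}
    let φ : ι → Bool := fun C => decide (C.1 = ConjClasses.mk 1)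
    have hφ : Function.Injective φ := by
      rintro ⟨C, a, rfl, ha⟩ ⟨C', b, rfl, hb⟩ he
      simp only [φ, decide_eq_decide] at he
      refine Subtype.ext ?_
      show ConjClasses.mk a = ConjClasses.mk b
      have key : ∀ c : G ⧸ K, ConjClasses.mk c = ConjClasses.mk 1 ↔ c = 1 := fun c => by
        rw [ConjClasses.mk_eq_mk_iff_isConj, isConj_one_left]
      rw [key, key] at he
      by_cases ha1 : a = 1
      · rw [ha1, he.1 ha1]
      · exact ConjClasses.mk_eq_mk_iff_isConj.2 (isConj_of_odd Core.pPrimeCore_quotient_eq_bot hT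
          (Nat.not_even_iff_odd.1 fun e => ha (even_iff_two_dvd.1 e))
          (Nat.not_even_iff_odd.1 fun e => hb (even_iff_two_dvd.1 e)) ha1 fun e => ha1 (he.2 e))
    refine (Nat.card_le_card_of_injective φ hφ).trans_eq ?_
    rw [Nat.card_eq_fintype_card, Fintype.card_bool]
  · -- not invariant
    set T := Char.inertia (G := G) (θ : K → ℂ) with hTdef
    have := Fintype.ofFinite T
    have hlt : Nat.card T ≤ n := by
      refine Nat.le_of_lt_succ (lt_of_lt_of_le (lt_of_le_of_ne (Subgroup.card_le_card_group T) ?_) hn)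
      intro e
      exact hinv fun g => Char.mem_inertia.1 (by
        rw [← hTdef, T.eq_top_of_card_eq e]; exact Subgroup.mem_top g)
    have hKT : K ≤ T := Char.le_inertia (Char.isClassFunction_of_isIrr θ.2)
    have hb : Cfsg.IsPBlock M ({θ} : Set (Cfsg.IrrCharacter K)) := by
      rw [← blockOf_eq_singleton_of_not_dvd hM hK2 θ]
      exact isPBlock_blockOf θ
    have hT : ∀ g : G, g ∈ T ↔ ∀ θ₁ ∈ ({θ} : Set (Cfsg.IrrCharacter K)),
        ∀ θ' : Cfsg.IrrCharacter K,
          (∀ n : K, (θ' : K → ℂ) n = (θ₁ : K → ℂ) ⟨g * n * g⁻¹, hKn.conj_mem n n.2 g⟩) →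
            θ' ∈ ({θ} : Set (Cfsg.IrrCharacter K)) := by
      intro g
      rw [hTdef, Char.mem_inertia]
      constructor
      · rintro hg θ₁ rfl θ' he
        exact Subtype.ext (funext fun n => (he n).trans (congrFun hg n))
      · intro hg
        exact congrArg Subtype.val
          (hg θ rfl ⟨_, Char.isIrr_conjFun g θ.2⟩ fun n => rfl)
    obtain ⟨B', hB', hcov, hind⟩ :=
      exists_inducing hKT hM hb hT hB ⟨χ, hχ, θ, rfl, hθ⟩
    obtain ⟨B₁, hind₁, -, -, hmem⟩ := exists_induced_block hKT hM hb hT hB' hcov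
    obtain rfl := induced_unique hM hind₁ hind
    refine (blockRank_le_of_induced (p := 2) fun φ hφ => (hmem φ).1 hφ).trans ?_
    obtain ⟨D', hD'⟩ := DefectThms.exists_defectGroup hM hB'
    have hE := (defect_and_heights hKT hM hb hT hB' hcov hind).1 D' hD'
    obtain ⟨k, hk⟩ := DefectThms.exists_defectGroup_conj hM hB hD hE
    have hle : D'.map T.subtype ≤ T := Subgroup.map_subtype_le _
    have h1 := (hk ▸ h.conj k).subgroupOf hle
    rw [Subgroup.subgroupOf, Subgroup.comap_map_eq_self_of_injective T.subtype_injective] at h1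
    exact ih T hlt B' hB' D' hD' _ _ N h1

end Cfsg.Agent.BlockChar.Tame
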